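import Groth.Agent.IndAlg.Basic
import Mathlib.RingTheory.Etale.Weakly
import Mathlib.RingTheory.Smooth.NoetherianDescent
import Mathlib.RingTheory.Flat.EquationalCriterion
import Mathlib.RingTheory.Smooth.Flat
import Mathlib.RingTheory.TensorProduct.Finite

/-!
Ind-etale algebras: base change, composition, cancellation, weak etaleness.
-/

universe u

open CategoryTheory CategoryTheory.Limits
open scoped TensorProduct

namespace Groth.Agent.IndAlg.Etale

open Groth.Agent.IndAlg

/-- The predicate "etale over `A`". -/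
def Et (A : Type u) [CommRing A] : ∀ (E : Type u) [CommRing E] [Algebra A E], Prop :=
  fun E _ _ => Algebra.Etale A E

theorem et_fp {A : Type u} [CommRing A] (E : Type u) [CommRing E] [Algebra A E] (h : Et A E) :
    Algebra.FinitePresentation A E :=
  have : Algebra.Etale A E := h
  inferInstance

theorem et_iso {A : Type u} [CommRing A] (E E' : Type u) [CommRing E] [Algebra A E] [CommRing E']
    [Algebra A E'] (e : E ≃ₐ[A] E') (h : Et A E) : Et A E' :=
  have : Algebra.Etale A E := h
  Algebra.Etale.of_equiv e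

theorem isInd_of_fac {A B : Type u} [CommRing A] [CommRing B] [Algebra A B]
    (h : Fac (Et A) B) : IsInd (Et A) B :=
  Groth.Agent.IndAlg.isInd_of_fac et_fp et_iso h

/-- Base change of ind-etale algebras. -/
theorem isInd_baseChange (A B A' : Type u) [CommRing A] [CommRing B] [CommRing A']
    [Algebra A B] [Algebra A A'] (h : IsInd (Et A) B) : IsInd (Et A') (A' ⊗[A] B) := by
  obtain ⟨J, _, _, D, c, hc, hQ, ⟨e⟩⟩ := h
  let F := CommRingCat.tensorProd (CommRingCat.of A) (CommRingCat.of A')
  have : (Under.pushout (CommRingCat.ofHom (algebraMap A A'))).IsLeftAdjoint :=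
    (Under.mapPushoutAdj (CommRingCat.ofHom (algebraMap A A'))).isLeftAdjoint
  have : PreservesColimitsOfShape J F :=
    preservesColimitsOfShape_of_natIso
      (CommRingCat.tensorProdIsoPushout (CommRingCat.of A) (CommRingCat.of A')).symm
  refine ⟨J, inferInstance, inferInstance, D ⋙ F, F.mapCocone c, isColimitOfPreserves F hc,
    fun j => ?_, ⟨F.mapIso e ≪≫ ?_⟩⟩
  · let a : Algebra A (D.obj j).right := (D.obj j).hom.hom.toAlgebra
    have hj : Algebra.Etale A (D.obj j).right := hQ j
    have hb : Algebra.Etale A' (A' ⊗[A] (D.obj j).right) := inferInstance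
    have hAlg : ((D ⋙ F).obj j).hom.hom.toAlgebra =
        (Algebra.TensorProduct.leftAlgebra : Algebra A' (A' ⊗[A] (D.obj j).right)) :=
      Algebra.algebra_ext _ _ fun x => rfl
    show @Et A' _ (A' ⊗[A] (D.obj j).right) _ ((D ⋙ F).obj j).hom.hom.toAlgebra
    rw [hAlg]
    exact hb
  · let X := Under.mk (CommRingCat.ofHom (algebraMap A B))
    let : Algebra A X.right := CommRingCat.instAlgebraCarrierRight X
    let eB : X.right ≃ₐ[A] B := AlgEquiv.ofRingEquiv (f := RingEquiv.refl B) fun a => rfl
    exact (Algebra.TensorProduct.congr (AlgEquiv.refl : A' ≃ₐ[A'] A') eB).toUnder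

theorem fac_baseChange {A B A' : Type u} [CommRing A] [CommRing B] [CommRing A']
    [Algebra A B] [Algebra A A'] (h : Fac (Et A) B) : Fac (Et A') (A' ⊗[A] B) :=
  fac_of_isInd (isInd_baseChange A B A' (isInd_of_fac h))

/-- If `B` and `C` are ind-etale over `A`, so is `C` over `B`. -/
theorem fac_tower {A B C : Type u} [CommRing A] [CommRing B] [CommRing C] [Algebra A B]
    [Algebra B C] [Algebra A C] [IsScalarTower A B C] (hB : Fac (Et A) B) (hC : Fac (Et A) C) :
    Fac (Et B) C := by
  classical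
  intro Z _ _ hZ g
  obtain ⟨n, f, hf, s, hs⟩ := hZ.out
  let T : Finset B := s.biUnion fun p => p.support.image fun m => p.coeff m
  obtain ⟨B1, _, _, hB1, v1, w1, hw1⟩ :=
    hB (MvPolynomial T A) inferInstance (MvPolynomial.aeval fun t : T => t.1)
  have : Algebra.Etale A B1 := hB1
  have hlift : ∀ p ∈ s, ∃ q : MvPolynomial (Fin n) B1, MvPolynomial.map w1.toRingHom q = p := by
    intro p hp
    have : p ∈ RingHom.range (MvPolynomial.map (σ := Fin n) w1.toRingHom) := by
      rw [p.as_sum]
      refine sum_mem fun m hm => ?_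
      refine ⟨MvPolynomial.monomial m (v1 (MvPolynomial.X ⟨p.coeff m, ?_⟩)), ?_⟩
      · exact Finset.mem_biUnion.2 ⟨p, hp, Finset.mem_image.2 ⟨m, hm, rfl⟩⟩
      · rw [MvPolynomial.map_monomial]
        refine congrArg _ ((congr($hw1 _)).trans ?_)
        rw [MvPolynomial.aeval_X]
    exact this
  choose q hq using hlift
  let Q : Finset (MvPolynomial (Fin n) B1) := s.attach.image fun p => q p.1 p.2
  let : Algebra B1 C := ((algebraMap B C).comp w1.toRingHom).toAlgebra
  have : IsScalarTower A B1 C := .of_algebraMap_eq fun a => by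
    show _ = algebraMap B C (w1 (algebraMap A B1 a))
    rw [w1.commutes, ← IsScalarTower.algebraMap_apply]
  let val : Fin n → C := fun k => g (f (MvPolynomial.X k))
  have hval : ∀ p : MvPolynomial (Fin n) B, MvPolynomial.aeval val p = g (f p) := fun p =>
    congr($(show MvPolynomial.aeval val = g.comp f by ext k; simp [val]) p)
  have hmap : ∀ p : MvPolynomial (Fin n) B1, MvPolynomial.aeval val p =
      MvPolynomial.aeval val (MvPolynomial.map w1.toRingHom p) := by
    intro p
    rw [MvPolynomial.aeval_def, MvPolynomial.aeval_def, MvPolynomial.eval₂_map]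
    rfl
  have hQ : Ideal.span (Q : Set (MvPolynomial (Fin n) B1)) ≤
      RingHom.ker (MvPolynomial.aeval val) := by
    rw [Ideal.span_le]
    intro x hx
    obtain ⟨⟨p, hp⟩, -, rfl⟩ := Finset.mem_image.1 hx
    have h0 : f p = 0 := by
      have := Ideal.subset_span (α := MvPolynomial (Fin n) B) hp
      rw [hs] at this
      exact this
    rw [SetLike.mem_coe, RingHom.mem_ker, hmap, hq, hval, h0, map_zero]
  let Z1 := MvPolynomial (Fin n) B1 ⧸ Ideal.span (Q : Set (MvPolynomial (Fin n) B1))
  have : Algebra.FinitePresentation B1 Z1 := Algebra.FinitePresentation.quotient ⟨Q, rfl⟩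
  have : Algebra.FinitePresentation A Z1 := Algebra.FinitePresentation.trans A B1 Z1
  let g1 : Z1 →ₐ[B1] C := Ideal.Quotient.liftₐ _ (MvPolynomial.aeval val) fun a ha => hQ ha
  obtain ⟨F, _, _, hF, v, w, hw⟩ := hC Z1 inferInstance (g1.restrictScalars A)
  have : Algebra.Etale A F := hF
  let : Algebra B1 F := (v.toRingHom.comp (algebraMap B1 Z1)).toAlgebra
  have : IsScalarTower A B1 F := .of_algebraMap_eq fun a => by
    show _ = v (algebraMap B1 Z1 (algebraMap A B1 a))
    rw [← IsScalarTower.algebraMap_apply, v.commutes]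
  have : Algebra.Etale B1 F := Algebra.Etale.of_restrictScalars A B1 F
  let : Algebra B1 B := w1.toRingHom.toAlgebra
  have : IsScalarTower B1 B C := .of_algebraMap_eq fun b => rfl
  let v' : Z1 →ₐ[B1] F := { toRingHom := v.toRingHom, commutes' := fun b => rfl }
  let w' : F →ₐ[B1] C :=
    { toRingHom := w.toRingHom
      commutes' := fun b => (congr($hw (algebraMap B1 Z1 b))).trans (g1.commutes b) }
  let V : MvPolynomial (Fin n) B →ₐ[B] B ⊗[B1] F :=
    MvPolynomial.aeval fun k => (1 : B) ⊗ₜ[B1] v' (Ideal.Quotient.mk _ (MvPolynomial.X k))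
  have hV : ∀ p : MvPolynomial (Fin n) B1, V (MvPolynomial.map w1.toRingHom p) =
      Algebra.TensorProduct.includeRight (v' (Ideal.Quotient.mk _ p)) := by
    intro p
    have : (MvPolynomial.aeval fun k => (1 : B) ⊗ₜ[B1] v' (Ideal.Quotient.mk _ (MvPolynomial.X k))) =
        (Algebra.TensorProduct.includeRight (A := B)).comp
          (v'.comp (Ideal.Quotient.mkₐ B1 (Ideal.span (Q : Set (MvPolynomial (Fin n) B1))))) := by
      ext k
      simp only [MvPolynomial.aeval_X, AlgHom.comp_apply, Algebra.TensorProduct.includeRight_apply]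
      rfl
    refine Eq.trans ?_ congr($this p)
    simp only [V, MvPolynomial.aeval_def, MvPolynomial.eval₂_map]
    congr 1
  have hker : RingHom.ker f.toRingHom ≤ RingHom.ker V.toRingHom := by
    rw [← hs, Ideal.span_le]
    intro p hp
    show V p = 0
    rw [← hq p hp, hV, Ideal.Quotient.eq_zero_iff_mem.2 (Ideal.subset_span ?_), map_zero, map_zero]
    exact Finset.mem_image.2 ⟨⟨p, hp⟩, Finset.mem_attach _ _, rfl⟩
  refine ⟨B ⊗[B1] F, inferInstance, inferInstance, (inferInstance : Algebra.Etale B (B ⊗[B1] F)),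
    AlgHom.liftOfSurjective f hf V hker,
    Algebra.TensorProduct.lift (Algebra.ofId B C) w' (fun _ _ => Commute.all _ _), ?_⟩
  refine (AlgHom.cancel_right hf).1 ?_
  rw [AlgHom.comp_assoc, AlgHom.liftOfSurjective_comp]
  ext k
  simp only [AlgHom.comp_apply, V, MvPolynomial.aeval_X, Algebra.TensorProduct.lift_tmul, map_one, one_mul]
  refine (congr($hw (Ideal.Quotient.mk _ (MvPolynomial.X k)))).trans ?_
  exact MvPolynomial.aeval_X val k

/-- An ind-etale algebra over an etale algebra is ind-etale. -/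
theorem fac_etale_base {A A' E : Type u} [CommRing A] [CommRing A'] [CommRing E] [Algebra A A']
    [Algebra A' E] [Algebra A E] [IsScalarTower A A' E] [Algebra.Etale A A']
    (h : Fac (Et A') E) : Fac (Et A) E := by
  intro Z _ _ hZ g
  have : Algebra.FinitePresentation A Z := hZ
  obtain ⟨F, _, _, hF, v, w, hw⟩ := h (A' ⊗[A] Z) inferInstance
    (Algebra.TensorProduct.lift (Algebra.ofId A' E) g (fun _ _ => Commute.all _ _))
  have : Algebra.Etale A' F := hF
  let : Algebra A F := ((algebraMap A' F).comp (algebraMap A A')).toAlgebra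
  have : IsScalarTower A A' F := .of_algebraMap_eq fun a => rfl
  refine ⟨F, inferInstance, inferInstance, Algebra.Etale.comp A A' F,
    (v.restrictScalars A).comp Algebra.TensorProduct.includeRight, w.restrictScalars A, ?_⟩
  ext z
  simpa using congr($hw ((1 : A') ⊗ₜ[A] z))

/-- An etale algebra over an ind-etale algebra is ind-etale. -/
theorem fac_etale_top {A B E : Type u} [CommRing A] [CommRing B] [CommRing E] [Algebra A B]
    [Algebra B E] [Algebra A E] [IsScalarTower A B E] [Algebra.Etale B E]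
    (h : Fac (Et A) B) : Fac (Et A) E := by
  obtain ⟨B0, E0, _, _, hfg, hE0, ⟨e⟩⟩ := Algebra.Etale.exists_subalgebra_fg (R := ℤ) (A := B) (B := E)
  have : Algebra.FiniteType ℤ B0 := (Subalgebra.fg_iff_finiteType B0).1 hfg
  have : Algebra.FinitePresentation ℤ B0 := Algebra.FinitePresentation.of_finiteType.1 ‹_›
  obtain ⟨B1, _, _, hB1, v, w, hw⟩ := h (A ⊗[ℤ] B0) inferInstance
    (Algebra.TensorProduct.lift (Algebra.ofId A B) B0.val (fun _ _ => Commute.all _ _))
  have : Algebra.Etale A B1 := hB1
  let : Algebra B0 B1 :=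
    (v.toRingHom.comp (Algebra.TensorProduct.includeRight (R := ℤ) (A := A) (B := B0)).toRingHom).toAlgebra
  let : Algebra B1 B := w.toRingHom.toAlgebra
  have : IsScalarTower A B1 B := .of_algebraMap_eq fun a => (w.commutes a).symm
  have : IsScalarTower B0 B1 B := .of_algebraMap_eq fun b => by
    show (b : B) = w (v ((1 : A) ⊗ₜ[ℤ] b))
    rw [show w (v ((1 : A) ⊗ₜ[ℤ] b)) = _ from congr($hw ((1 : A) ⊗ₜ[ℤ] b))]
    simp
  let E1 := B1 ⊗[B0] E0
  let e1 : B ⊗[B1] E1 ≃ₐ[B] E :=
    (Algebra.TensorProduct.cancelBaseChange B0 B1 B B E0).trans e.symm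
  let : Algebra B1 E := ((algebraMap B E).comp (algebraMap B1 B)).toAlgebra
  have : IsScalarTower B1 B E := .of_algebraMap_eq fun x => rfl
  let : Algebra E1 E :=
    ((e1.toAlgHom.restrictScalars B1).comp Algebra.TensorProduct.includeRight).toRingHom.toAlgebra
  have : Algebra.Etale A E1 := Algebra.Etale.comp A B1 E1
  have : IsScalarTower A E1 E := .of_algebraMap_eq fun a => by
    show algebraMap A E a = e1 ((1 : B) ⊗ₜ[B1] algebraMap A E1 a)
    rw [IsScalarTower.algebraMap_apply A B1 E1, ← Algebra.TensorProduct.tmul_one_eq_one_tmul,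
      ← IsScalarTower.algebraMap_apply A B1 B, ← Algebra.algebraMap_self_apply (algebraMap A B a),
      ← Algebra.TensorProduct.algebraMap_apply, e1.commutes, ← IsScalarTower.algebraMap_apply]
  have hB' : Fac (Et B1) B := fac_tower (fac_self (Q := Et A) hB1) h
  have hE' : Fac (Et E1) (E1 ⊗[B1] B) := fac_baseChange hB'
  let e2 : E1 ⊗[B1] B ≃ₐ[E1] E := AlgEquiv.ofRingEquiv
    (f := (Algebra.TensorProduct.comm B1 E1 B).toRingEquiv.trans e1.toRingEquiv) fun x => rfl
  exact fac_etale_base (fac_algEquiv e2 hE')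

/-- Composition of ind-etale algebras. -/
theorem fac_trans {A B C : Type u} [CommRing A] [CommRing B] [CommRing C] [Algebra A B]
    [Algebra B C] [Algebra A C] [IsScalarTower A B C] (hB : Fac (Et A) B) (hC : Fac (Et B) C) :
    Fac (Et A) C := by
  intro Z _ _ hZ g
  have : Algebra.FinitePresentation A Z := hZ
  obtain ⟨E, _, _, hE, v, w, hw⟩ := hC (B ⊗[A] Z) inferInstance
    (Algebra.TensorProduct.lift (Algebra.ofId B C) g (fun _ _ => Commute.all _ _))
  have : Algebra.Etale B E := hE
  let : Algebra A E := ((algebraMap B E).comp (algebraMap A B)).toAlgebra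
  have : IsScalarTower A B E := .of_algebraMap_eq fun a => rfl
  obtain ⟨F, _, _, hF, v', w', hw'⟩ := fac_etale_top (E := E) hB Z hZ
    ((v.restrictScalars A).comp Algebra.TensorProduct.includeRight)
  refine ⟨F, inferInstance, inferInstance, hF, v', (w.restrictScalars A).comp w', ?_⟩
  rw [AlgHom.comp_assoc, hw']
  ext z
  simpa using congr($hw ((1 : B) ⊗ₜ[A] z))

theorem flat {A B : Type u} [CommRing A] [CommRing B] [Algebra A B] (h : Fac (Et A) B) :
    Module.Flat A B := by
  refine Module.Flat.iff_forall_isTrivialRelation.2 fun {l f x} hfx => ?_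
  let r : MvPolynomial (Fin l) A := ∑ k, f k • MvPolynomial.X k
  have hr : Ideal.span {r} ≤ RingHom.ker (MvPolynomial.aeval x) := by
    rw [Ideal.span_singleton_le_iff_mem, RingHom.mem_ker]
    simp [r, hfx]
  obtain ⟨E, _, _, hE, v, w, hw⟩ := h (MvPolynomial (Fin l) A ⧸ Ideal.span {r})
    (Algebra.FinitePresentation.quotient ⟨{r}, by simp⟩)
    (Ideal.Quotient.liftₐ _ (MvPolynomial.aeval x) fun a ha => hr ha)
  have : Algebra.Etale A E := hE
  have h0 : ∑ k, f k • v (Ideal.Quotient.mkₐ A _ (MvPolynomial.X k)) = 0 := by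
    have : v (Ideal.Quotient.mkₐ A (Ideal.span {r}) r) = 0 := by
      rw [Ideal.Quotient.mkₐ_eq_mk,
        Ideal.Quotient.eq_zero_iff_mem.2 (Ideal.subset_span (Set.mem_singleton r)), map_zero]
    refine Eq.trans ?_ this
    simp only [← map_smul, ← map_sum]
    rfl
  obtain ⟨m, a, y, hxy, ha⟩ := Module.Flat.isTrivialRelation_of_sum_smul_eq_zero h0
  refine ⟨m, a, fun j => w (y j), fun k => ?_, ha⟩
  have hk : w (v (Ideal.Quotient.mkₐ A _ (MvPolynomial.X k))) = x k :=
    (congr($hw _)).trans (MvPolynomial.aeval_X x k)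
  rw [← hk, show v (Ideal.Quotient.mkₐ A _ (MvPolynomial.X k)) = ∑ j, a k j • y j from hxy k, map_sum]
  simp only [map_smul]

theorem weaklyEtale {A B : Type u} [CommRing A] [CommRing B] [Algebra A B] (h : Fac (Et A) B) :
    Algebra.WeaklyEtale A B := by
  classical
  refine ⟨flat h, ?_⟩
  let algB : Algebra (B ⊗[A] B) B := (Algebra.TensorProduct.lmul' A (S := B)).toRingHom.toAlgebra
  show @Module.Flat (B ⊗[A] B) B _ _ _
  refine Module.Flat.iff_forall_isTrivialRelation.2 fun {l f x} hfx => ?_
  have hS := fun k => TensorProduct.exists_finset (f k)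
  choose S hS using hS
  let ι := Fin l ⊕ (Σ k, S k) ⊕ (Σ k, S k)
  let val : ι → B := Sum.elim x (Sum.elim (fun p => p.2.1.1) (fun p => p.2.1.2))
  let P := MvPolynomial ι A
  let τ : Fin l → P ⊗[A] P := fun k => ∑ p : S k,
    MvPolynomial.X (Sum.inr (Sum.inl ⟨k, p⟩)) ⊗ₜ[A] MvPolynomial.X (Sum.inr (Sum.inr ⟨k, p⟩))
  have hτ : ∀ k, Algebra.TensorProduct.map (MvPolynomial.aeval val) (MvPolynomial.aeval val) (τ k) =
      f k := by
    intro k
    rw [hS k, map_sum]
    simp only [Algebra.TensorProduct.map_tmul, MvPolynomial.aeval_X]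
    exact Finset.sum_coe_sort (S k) fun p => p.1 ⊗ₜ[A] p.2
  have hcomm : ∀ {C D : Type u} [CommRing C] [Algebra A C] [CommRing D] [Algebra A D]
      (φ : C →ₐ[A] D) (t : C ⊗[A] C),
      φ (Algebra.TensorProduct.lmul' A t) =
        Algebra.TensorProduct.lmul' A (Algebra.TensorProduct.map φ φ t) := by
    intro C D _ _ _ _ φ t
    induction t using TensorProduct.induction_on with
    | zero => simp
    | tmul a b => simp
    | add a b ha hb => simp [ha, hb]
  let r : P := ∑ k, Algebra.TensorProduct.lmul' A (τ k) * MvPolynomial.X (Sum.inl k)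
  have hr : Ideal.span {r} ≤ RingHom.ker (MvPolynomial.aeval val) := by
    rw [Ideal.span_singleton_le_iff_mem, RingHom.mem_ker]
    simp only [r, map_sum, map_mul, hcomm, hτ]
    refine Eq.trans (Finset.sum_congr rfl fun k _ => ?_) hfx
    rw [MvPolynomial.aeval_X]
    rfl
  obtain ⟨E, _, _, hE, v, w, hw⟩ := h (P ⧸ Ideal.span {r})
    (Algebra.FinitePresentation.quotient ⟨{r}, by simp⟩)
    (Ideal.Quotient.liftₐ _ (MvPolynomial.aeval val) fun a ha => hr ha)
  have : Algebra.Etale A E := hE
  have hflat : (Algebra.TensorProduct.lmul' A (S := E)).Flat := Algebra.WeaklyEtale.flat_lmul' A E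
  let algE : Algebra (E ⊗[A] E) E := (Algebra.TensorProduct.lmul' A (S := E)).toRingHom.toAlgebra
  have : Module.Flat (E ⊗[A] E) E := hflat
  let v' : P →ₐ[A] E := v.comp (Ideal.Quotient.mkₐ A (Ideal.span {r}))
  have hwv : w.comp v' = MvPolynomial.aeval val := by
    rw [← AlgHom.comp_assoc, hw]
    rfl
  have h0 : ∑ k, Algebra.TensorProduct.map v' v' (τ k) • v' (MvPolynomial.X (Sum.inl k)) = 0 := by
    have : v' r = 0 := by
      show v (Ideal.Quotient.mk _ r) = 0
      rw [Ideal.Quotient.eq_zero_iff_mem.2 (Ideal.subset_span (Set.mem_singleton r)), map_zero]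
    refine Eq.trans ?_ this
    simp only [r, map_sum, map_mul, hcomm]
    rfl
  obtain ⟨m, a, y, hxy, ha⟩ := Module.Flat.isTrivialRelation_of_sum_smul_eq_zero h0
  have hmm : ∀ t, Algebra.TensorProduct.map w w (Algebra.TensorProduct.map v' v' t) =
      Algebra.TensorProduct.map (MvPolynomial.aeval val) (MvPolynomial.aeval val) t := by
    intro t
    rw [← hwv]
    exact (congr($(Algebra.TensorProduct.map_comp (S := A) w v' w v') t)).symm
  refine ⟨m, fun k j => Algebra.TensorProduct.map w w (a k j), fun j => w (y j), fun k => ?_,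
    fun j => ?_⟩
  · have hk : w (v' (MvPolynomial.X (Sum.inl k))) = x k := by
      rw [← AlgHom.comp_apply, hwv, MvPolynomial.aeval_X]
      rfl
    rw [← hk, show v' (MvPolynomial.X (Sum.inl k)) = ∑ j, a k j • y j from hxy k, map_sum]
    refine Finset.sum_congr rfl fun j _ => ?_
    show w (Algebra.TensorProduct.lmul' A (a k j) * y j) = _
    rw [map_mul, hcomm]
    rfl
  · refine Eq.trans ?_ ((congrArg (Algebra.TensorProduct.map w w) (ha j)).trans (map_zero _))
    simp only [map_sum, map_mul, hmm, hτ]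

end Groth.Agent.IndAlg.Etale
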