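import Groth.Agent.IndAlg.EtCover
import Groth.Prelude.Def_ProEtW
import Mathlib.Algebra.Colimit.DirectLimit
import Mathlib.CategoryTheory.Functor.OfSequence
import Mathlib.RingTheory.Spectrum.Prime.Chevalley

/-!
Sequential colimits of rings, and the ind-etale cover with etale retractions.
-/

universe u

open CategoryTheory
open scoped TensorProduct

namespace Groth.Agent.IndAlg.Seq

variable {X : ℕ → CommRingCat.{u}} (s : ∀ n, X n ⟶ X (n + 1))

/-- Transition maps. -/
noncomputable def tr (i j : ℕ) (h : i ≤ j) : X i →+* X j := (Functor.OfSequence.map s i j h).hom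

instance : DirectedSystem (fun n => (X n : Type u)) (tr s · · ·) where
  map_self i x := by simp [tr, Functor.OfSequence.map_id]
  map_map k j i hij hjk x := by
    simp [tr, Functor.OfSequence.map_comp s i j k hij hjk]

/-- The colimit. -/
abbrev Lim : Type u := DirectLimit (fun n => (X n : Type u)) (tr s)

/-- The canonical maps. -/
noncomputable def of (n : ℕ) : X n →+* Lim s :=
  DirectLimit.Ring.of (fun n => (X n : Type u)) (tr s) n

theorem of_tr {i j : ℕ} (h : i ≤ j) (x : X i) : of s j (tr s i j h x) = of s i x :=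
  DirectLimit.Ring.of_f (f := tr s) h x

theorem exists_rep (y : Lim s) : ∃ n x, of s n x = y := by
  induction y using DirectLimit.induction with | _ i x => exact ⟨i, x, rfl⟩

theorem exists_rep_fintype {ι : Type*} [Finite ι] (y : ι → Lim s) :
    ∃ (n : ℕ) (x : ι → X n), ∀ i, of s n (x i) = y i := by
  choose n x hx using fun i => exists_rep s (y i)
  obtain ⟨N, hN⟩ := (Set.finite_range n).bddAbove
  exact ⟨N, fun i => tr s (n i) N (hN ⟨i, rfl⟩) (x i), fun i => (of_tr s _ _).trans (hx i)⟩

theorem exists_eq {n : ℕ} {x y : X n} (h : of s n x = of s n y) :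
    ∃ (m : ℕ) (hnm : n ≤ m), tr s n m hnm x = tr s n m hnm y := by
  obtain ⟨m, h1, h2, he⟩ := Quotient.exact h
  exact ⟨m, h1, he⟩

theorem exists_eq_finset {n : ℕ} {ι : Type*} (F : Finset ι) (x y : ι → X n)
    (h : ∀ i ∈ F, of s n (x i) = of s n (y i)) :
    ∃ (m : ℕ) (hnm : n ≤ m), ∀ i ∈ F, tr s n m hnm (x i) = tr s n m hnm (y i) := by
  choose m hm he using fun i : F => exists_eq s (h i.1 i.2)
  obtain ⟨N, hN⟩ := (Set.finite_range m).bddAbove
  refine ⟨max N n, le_max_right _ _, fun i hi => ?_⟩
  have h1 : m ⟨i, hi⟩ ≤ max N n := (hN ⟨⟨i, hi⟩, rfl⟩).trans (le_max_left _ _)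
  have := congrArg (tr s (m ⟨i, hi⟩) (max N n) h1) (he ⟨i, hi⟩)
  rwa [DirectedSystem.map_map (f := (tr s · · ·)), DirectedSystem.map_map (f := (tr s · · ·))] at this

/-- Maps from finitely presented algebras factor through a stage. -/
theorem exists_lift {R : Type*} {Z : Type u} [CommRing R] [CommRing Z] [Algebra R Z]
    [Algebra.FinitePresentation R Z] {i : ℕ} (ρ : R →+* X i) (g : Z →+* Lim s)
    (hg : g.comp (algebraMap R Z) = (of s i).comp ρ) :
    ∃ (n : ℕ) (hn : i ≤ n) (v : Z →+* X n),
      v.comp (algebraMap R Z) = (tr s i n hn).comp ρ ∧ (of s n).comp v = g := by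
  obtain ⟨m, f, hf, F, hF⟩ := (inferInstance : Algebra.FinitePresentation R Z).out
  obtain ⟨N, x, hx⟩ := exists_rep_fintype s fun k : Fin m => g (f (MvPolynomial.X k))
  let N' := max i N
  let V : MvPolynomial (Fin m) R →+* X N' := MvPolynomial.eval₂Hom
    ((tr s i N' (le_max_left _ _)).comp ρ) fun k => tr s N N' (le_max_right _ _) (x k)
  have hV : (of s N').comp V = g.comp f.toRingHom := by
    refine MvPolynomial.ringHom_ext (fun r => ?_) fun k => ?_
    · rw [RingHom.comp_apply, MvPolynomial.eval₂Hom_C, RingHom.comp_apply, of_tr,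
        RingHom.comp_apply, AlgHom.toRingHom_eq_coe, RingHom.coe_coe, ← MvPolynomial.algebraMap_eq,
        f.commutes]
      exact congr($hg.symm r)
    · simp [V, of_tr, hx]
  obtain ⟨M, hM, hMF⟩ := exists_eq_finset s F (fun p => V p) (fun _ => 0) fun p hp => by
    have h0 : f p = 0 := by
      have := Ideal.subset_span (α := MvPolynomial (Fin m) R) hp
      rw [hF] at this
      exact this
    rw [show of s N' (V p) = g (f p) from congr($hV p), h0, map_zero, map_zero]
  let W : MvPolynomial (Fin m) R →+* X M := (tr s N' M hM).comp V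
  have hk : RingHom.ker f.toRingHom ≤ RingHom.ker W := by
    rw [← hF, Ideal.span_le]
    intro p hp
    exact (hMF p hp).trans (map_zero _)
  refine ⟨M, (le_max_left i N).trans hM, RingHom.liftOfSurjective f.toRingHom hf ⟨W, hk⟩, ?_, ?_⟩
  · ext r
    rw [RingHom.comp_apply, ← f.commutes r]
    refine (RingHom.liftOfRightInverse_comp_apply f.toRingHom _ _ _ _).trans ?_
    show tr s N' M hM (V (MvPolynomial.C r)) = _
    rw [MvPolynomial.eval₂Hom_C]
    exact DirectedSystem.map_map (f := (tr s · · ·)) (le_max_left i N) hM (ρ r)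
  · refine (RingHom.cancel_right (f := f.toRingHom) hf).1 (RingHom.ext fun p => ?_)
    refine (congrArg (of s M) (RingHom.liftOfRightInverse_comp_apply f.toRingHom _ _ _ _)).trans ?_
    show of s M (tr s N' M hM (V p)) = g (f p)
    rw [of_tr]
    exact congr($hV p)

end Groth.Agent.IndAlg.Seq

namespace Groth.Agent.IndAlg.EtTower

open Groth.Agent.IndAlg

variable (A : Type u) [CommRing A]

/-- Stages. -/
noncomputable def stage : ℕ → CommRingCat.{u}
  | 0 => CommRingCat.of A
  | n + 1 => CommRingCat.of (EtCover.All (stage n))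

/-- Steps. -/
noncomputable def step (n : ℕ) : stage A n ⟶ stage A (n + 1) :=
  CommRingCat.ofHom (algebraMap (stage A n) (EtCover.All (stage A n)))

/-- The colimit of the tower. -/
abbrev Ring : Type u := Seq.Lim (step A)

noncomputable instance : Algebra A (Ring A) := (Seq.of (step A) 0).toAlgebra

/-- Algebra structures on stages. -/
noncomputable abbrev algStage (n : ℕ) : Algebra A (stage A n) :=
  (Seq.tr (step A) 0 n (Nat.zero_le n)).toAlgebra

theorem fac_stage (n : ℕ) :
    letI := algStage A n
    Fac (Etale.Et A) (stage A n) := by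
  induction n with
  | zero =>
    let := algStage A 0
    have hb : Function.Bijective (algebraMap A (stage A 0)) := by
      have : algebraMap A (stage A 0) = RingHom.id A := RingHom.ext fun a =>
        DirectedSystem.map_self (f := (Seq.tr (step A) · · ·)) (show stage A 0 from a)
      rw [this]
      exact Function.bijective_id
    exact fac_self (Algebra.Etale.of_equiv (AlgEquiv.ofBijective (Algebra.ofId A (stage A 0)) hb))
  | succ n ih =>
    let := algStage A n
    let := algStage A (n + 1)
    let : Algebra (stage A n) (stage A (n + 1)) :=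
      (inferInstance : Algebra (stage A n) (EtCover.All (stage A n)))
    have : IsScalarTower A (stage A n) (stage A (n + 1)) := .of_algebraMap_eq fun a => by
      show Seq.tr (step A) 0 (n + 1) _ a = (step A n).hom (Seq.tr (step A) 0 n _ a)
      simp [Seq.tr, Functor.OfSequence.map_comp (step A) 0 n (n + 1) (Nat.zero_le n) (Nat.le_succ n),
        Functor.OfSequence.map_le_succ]
    exact Etale.fac_trans ih (EtCover.fac (stage A n) :)

theorem fac : Fac (Etale.Et A) (Ring A) := by
  intro Z _ _ hZ g
  have := hZ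
  obtain ⟨n, hn, v, hv, hv'⟩ := Seq.exists_lift (step A) (i := 0) (RingHom.id A) g.toRingHom
    g.comp_algebraMap
  let := algStage A n
  let v' : Z →ₐ[A] stage A n := { v with commutes' := fun a => congr($hv a) }
  obtain ⟨E, _, _, hE, v'', w, hw⟩ := fac_stage A n Z hZ v'
  let o : stage A n →ₐ[A] Ring A :=
    { Seq.of (step A) n with commutes' := fun a => Seq.of_tr (step A) (Nat.zero_le n) a }
  exact ⟨E, inferInstance, inferInstance, hE, v'', o.comp w,
    AlgHom.ext fun z => (congrArg o (congr($hw z))).trans congr($hv' z)⟩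

theorem exists_point (k : Type u) [Field k] [IsAlgClosed k] [Algebra A k] :
    ∃ φ : Ring A →+* k, φ.comp (algebraMap A (Ring A)) = algebraMap A k := by
  have hext : ∀ (n : ℕ) (ψ : stage A n →+* k), ∃ ψ' : stage A (n + 1) →+* k,
      ψ'.comp (step A n).hom = ψ := by
    intro n ψ
    let := ψ.toAlgebra
    obtain ⟨Φ⟩ := EtCover.exists_point (stage A n) k
    exact ⟨Φ.toRingHom, Φ.comp_algebraMap⟩
  choose nxt hnxt using hext
  let ψ : ∀ n, stage A n →+* k := fun n => Nat.rec (algebraMap A k) (fun n ψ => nxt n ψ) n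
  have hψ : ∀ i j (h : i ≤ j) (x : stage A i), ψ j (Seq.tr (step A) i j h x) = ψ i x := by
    intro i j h
    induction j, h using Nat.le_induction with
    | base => intro x; rw [DirectedSystem.map_self (f := (Seq.tr (step A) · · ·))]
    | succ j h ih =>
      intro x
      rw [← ih x]
      simp [Seq.tr, Functor.OfSequence.map_comp (step A) i j (j + 1) h (Nat.le_succ j),
        Functor.OfSequence.map_le_succ]
      exact congr($(hnxt j (ψ j)) _)
  exact ⟨DirectLimit.Ring.lift _ _ k ψ hψ, RingHom.ext fun a => rfl⟩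

theorem faithfullyFlat : Module.FaithfullyFlat A (Ring A) := by
  have := Etale.flat (fac A)
  refine Module.FaithfullyFlat.of_comap_surjective fun p => ?_
  let k := AlgebraicClosure p.asIdeal.ResidueField
  obtain ⟨φ, hφ⟩ := exists_point A k
  refine ⟨⟨RingHom.ker φ, RingHom.ker_isPrime _⟩, PrimeSpectrum.ext ?_⟩
  show Ideal.comap (algebraMap A (Ring A)) (RingHom.ker φ) = p.asIdeal
  ext a
  rw [Ideal.mem_comap, RingHom.mem_ker, show φ (algebraMap A _ a) = algebraMap A k a from congr($hφ a),
    IsScalarTower.algebraMap_apply A p.asIdeal.ResidueField k, map_eq_zero,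
    Ideal.algebraMap_residueField_eq_zero]

theorem hasEtaleRetractions : ProEtW.HasEtaleRetractions (Ring A) := by
  intro E _ _ hff hE
  let C := Ring A
  obtain ⟨C0, E0, _, _, hfg, hE0, ⟨e⟩⟩ :=
    Algebra.Etale.exists_subalgebra_fg (R := ℤ) (A := C) (B := E)
  have : Algebra.FiniteType ℤ C0 := (Subalgebra.fg_iff_finiteType C0).1 hfg
  have : IsNoetherianRing C0 := Algebra.FiniteType.isNoetherianRing ℤ C0
  have : Algebra.FinitePresentation ℤ C0 := Algebra.FinitePresentation.of_finiteType.1 inferInstance
  -- the image downstairs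
  obtain ⟨J, hJfg, hJ⟩ := (PrimeSpectrum.isCompact_isOpen_iff_ideal
    (s := Set.range (PrimeSpectrum.comap (algebraMap C0 E0)))).1
    ⟨isCompact_range (PrimeSpectrum.continuous_comap _),
      (PrimeSpectrum.isOpenMap_comap_of_hasGoingDown_of_finitePresentation (R := C0) (S := E0)).isOpen_range⟩
  have hJC : J.map C0.val.toRingHom = ⊤ := by
    by_contra hne
    obtain ⟨P, hP, hJP⟩ := Ideal.exists_le_maximal _ hne
    obtain ⟨Q, hQ⟩ := PrimeSpectrum.comap_surjective_of_faithfullyFlat (A := C) (B := E)
      ⟨P, hP.isPrime⟩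
    let f : E0 →+* E := e.symm.toAlgHom.toRingHom.comp
      (Algebra.TensorProduct.includeRight (R := C0) (A := C)).toRingHom
    have hf : f.comp (algebraMap C0 E0) = (algebraMap C E).comp C0.val.toRingHom := by
      ext c
      show e.symm (1 ⊗ₜ algebraMap C0 E0 c) = algebraMap C E (c : C)
      rw [← e.symm.commutes, Algebra.TensorProduct.algebraMap_apply, Algebra.algebraMap_eq_smul_one,
        TensorProduct.tmul_smul, TensorProduct.smul_tmul', Algebra.smul_def, mul_one]
      rfl
    have hmem : PrimeSpectrum.comap C0.val.toRingHom ⟨P, hP.isPrime⟩ ∈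
        Set.range (PrimeSpectrum.comap (algebraMap C0 E0)) :=
      ⟨PrimeSpectrum.comap f Q, by
        rw [← PrimeSpectrum.comap_comp_apply, hf, PrimeSpectrum.comap_comp_apply, hQ]⟩
    rw [← hJ] at hmem
    exact hmem (Ideal.map_le_iff_le_comap.1 hJP)
  let ρ : ℤ →+* stage A 0 := Int.castRingHom _
  obtain ⟨n, -, v, -, hv⟩ := Seq.exists_lift (R := ℤ) (step A) (i := 0) ρ C0.val.toRingHom
    (RingHom.ext_int _ _)
  -- a stage where the ideal is the unit ideal
  have h1 : (J.map v).map (Seq.of (step A) n) = ⊤ := by rw [Ideal.map_map, hv, hJC]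
  obtain ⟨F, hF⟩ := hJfg.map v
  have h1' : (1 : C) ∈ Ideal.span ((Seq.of (step A) n) '' (F : Set (stage A n))) := by
    rw [← Ideal.map_span]
    rw [show Ideal.span (F : Set (stage A n)) = J.map v from hF, h1]
    trivial
  rw [Set.image_eq_range] at h1'
  obtain ⟨cf, hcf⟩ := (Submodule.mem_span_range_iff_exists_fun C).1 h1'
  obtain ⟨n', x, hx⟩ := Seq.exists_rep_fintype (step A) cf
  obtain ⟨M, hM, hMeq⟩ := Seq.exists_eq (step A) (n := max n n')
    (x := ∑ i : (F : Set (stage A n)), Seq.tr (step A) n' (max n n') (le_max_right _ _) (x i) *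
      Seq.tr (step A) n (max n n') (le_max_left _ _) i.1) (y := 1) (by
      simp only [map_sum, map_mul, Seq.of_tr, hx, map_one]
      exact hcf)
  let w : C0 →+* stage A M := (Seq.tr (step A) n M ((le_max_left n n').trans hM)).comp v
  have hJw : J.map w = ⊤ := by
    rw [Ideal.eq_top_iff_one, ← map_one (Seq.tr (step A) (max n n') M hM)]
    rw [← hMeq, map_sum]
    refine sum_mem fun i _ => ?_
    rw [map_mul]
    refine Ideal.mul_mem_left _ _ ?_
    rw [DirectedSystem.map_map (f := (Seq.tr (step A) · · ·)), ← Ideal.map_map]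
    exact Ideal.mem_map_of_mem _ (hF ▸ Ideal.subset_span i.2)
  have hw : (Seq.of (step A) M).comp w = C0.val.toRingHom := by
    rw [← hv]
    exact RingHom.ext fun c => Seq.of_tr (step A) _ _
  let := w.toAlgebra
  let EM := stage A M ⊗[C0] E0
  have hffM : Module.FaithfullyFlat (stage A M) (stage A M ⊗[C0] E0) := by
    have : Module.Flat (stage A M) (stage A M ⊗[C0] E0) := inferInstance
    refine Module.FaithfullyFlat.of_comap_surjective fun p => ?_
    show p ∈ Set.range (PrimeSpectrum.comap (algebraMap (stage A M) (stage A M ⊗[C0] E0)))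
    rw [← PrimeSpectrum.nontrivial_iff_mem_rangeComap]
    let p0 := PrimeSpectrum.comap w p
    have hp0 : p0 ∈ Set.range (PrimeSpectrum.comap (algebraMap C0 E0)) := by
      rw [← hJ]
      intro hJp
      exact p.2.ne_top (top_le_iff.1 (hJw ▸ Ideal.map_le_iff_le_comap.2 hJp))
    rw [← PrimeSpectrum.nontrivial_iff_mem_rangeComap] at hp0
    let : Algebra p0.asIdeal.ResidueField p.asIdeal.ResidueField :=
      (Ideal.ResidueField.map p0.asIdeal p.asIdeal w rfl).toAlgebra
    have : IsScalarTower C0 p0.asIdeal.ResidueField p.asIdeal.ResidueField :=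
      .of_algebraMap_eq fun c => by
        rw [IsScalarTower.algebraMap_apply C0 (stage A M) p.asIdeal.ResidueField]
        exact (Ideal.ResidueField.map_algebraMap p0.asIdeal p.asIdeal w rfl c).symm
    have : Nontrivial (p.asIdeal.ResidueField ⊗[p0.asIdeal.ResidueField]
        (p0.asIdeal.ResidueField ⊗[C0] E0)) := inferInstance
    have : Nontrivial (p.asIdeal.ResidueField ⊗[C0] E0) :=
      (Algebra.TensorProduct.cancelBaseChange C0 p0.asIdeal.ResidueField p.asIdeal.ResidueField
        p.asIdeal.ResidueField E0).toEquiv.symm.nontrivial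
    exact (Algebra.TensorProduct.cancelBaseChange C0 (stage A M) (stage A M)
      p.asIdeal.ResidueField E0).toEquiv.nontrivial
  obtain ⟨i, ⟨ei⟩⟩ := EtCover.exists_pres (A := stage A M) hffM
  let r : stage A M ⊗[C0] E0 →ₐ[stage A M] EtCover.All (stage A M) :=
    (EtCover.inc (id : EtCover.Idx (stage A M) → _) i).comp ei.symm.toAlgHom
  let oM : EtCover.All (stage A M) →+* C := Seq.of (step A) (M + 1)
  have hoM : ∀ z : stage A M, oM (algebraMap (stage A M) _ z) = Seq.of (step A) M z := by
    intro z
    refine Eq.trans ?_ (Seq.of_tr (step A) (Nat.le_succ M) z)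
    refine congrArg (Seq.of (step A) (M + 1)) ?_
    simp [Seq.tr, Functor.OfSequence.map_le_succ]
    rfl
  let σ : E0 →ₐ[C0] C :=
    { toRingHom := oM.comp (r.toRingHom.comp
        (Algebra.TensorProduct.includeRight (R := C0) (A := stage A M)).toRingHom)
      commutes' := fun c => by
        show oM (r (1 ⊗ₜ algebraMap C0 E0 c)) = (c : C)
        rw [Algebra.algebraMap_eq_smul_one, TensorProduct.tmul_smul, TensorProduct.smul_tmul',
          Algebra.smul_def, mul_one, ← Algebra.TensorProduct.algebraMap_apply,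
          IsScalarTower.algebraMap_apply C0 (stage A M) (stage A M ⊗[C0] E0), r.commutes, hoM]
        exact congr($hw c) }
  exact ⟨(Algebra.TensorProduct.lift (Algebra.ofId C C) σ fun _ _ => Commute.all _ _).comp e.toAlgHom⟩

end Groth.Agent.IndAlg.EtTower
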