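import Mathlib.RingTheory.Smooth.StandardSmoothOfFree
import Mathlib.RingTheory.Etale.Pi
import Mathlib.RingTheory.Smooth.Flat
import Mathlib.RingTheory.RingHom.Flat
import Mathlib.RingTheory.Spectrum.Prime.Chevalley

/-!
Etale algebras lift along quotient maps.
-/

universe u

namespace Groth.Agent.IndAlg.EtaleLift

open MvPolynomial

/-- Inverting the Jacobian of a presentation with as many relations as variables gives an etale
algebra. -/
theorem etale_away_jacobian {A S : Type u} [CommRing A] [CommRing S] [Algebra A S]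
    {ι σ : Type} [Finite σ] [Finite ι] (P : Algebra.PreSubmersivePresentation A S ι σ)
    (hcard : Nat.card σ = Nat.card ι) : Algebra.Etale A (Localization.Away P.jacobian) := by
  let Q : Algebra.SubmersivePresentation A (Localization.Away P.jacobian) (Unit ⊕ ι) (Unit ⊕ σ) :=
    { (Algebra.PreSubmersivePresentation.localizationAway (Localization.Away P.jacobian) P.jacobian).comp P with
      jacobian_isUnit := by
        rw [Algebra.PreSubmersivePresentation.comp_jacobian_eq_jacobian_smul_jacobian,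
          Algebra.smul_def, IsUnit.mul_iff, Algebra.PreSubmersivePresentation.localizationAway_jacobian]
        exact ⟨IsLocalization.Away.algebraMap_isUnit _, IsLocalization.Away.algebraMap_isUnit _⟩ }
  refine Algebra.Etale.iff_isStandardSmoothOfRelativeDimension_zero.2
    ⟨_, _, inferInstance, inferInstance, Q, ?_⟩
  show Nat.card (Unit ⊕ ι) - Nat.card (Unit ⊕ σ) = 0
  rw [Nat.card_sum, Nat.card_sum, hcard, Nat.sub_self]

/-- The reduction of a presentation: the data of a lift. -/
theorem exists_lift_aux {A B : Type u} [CommRing A] (I : Ideal A) [CommRing B] [Algebra (A ⧸ I) B]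
    [Algebra A B] [IsScalarTower A (A ⧸ I) B] {ι σ : Type} [Finite σ] [Finite ι]
    (P : Algebra.SubmersivePresentation (A ⧸ I) B ι σ) (v : σ → MvPolynomial ι A)
    (hv : ∀ j, MvPolynomial.map (Ideal.Quotient.mk I) (v j) = P.relation j)
    (P1 : Algebra.PreSubmersivePresentation A (MvPolynomial ι A ⧸ Ideal.span (Set.range v)) ι σ)
    (hval : ∀ i, P1.val i = Ideal.Quotient.mk _ (X i))
    (hrel1 : ∀ j, P1.relation j = v j) (hmap : P1.map = P.map) :
    ∃ ψ1 : (MvPolynomial ι A ⧸ Ideal.span (Set.range v)) →ₐ[A] B,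
      (∀ i, ψ1 (Ideal.Quotient.mk _ (X i)) = P.val i) ∧ IsUnit (ψ1 P1.jacobian) := by
  classical
  have := Fintype.ofFinite σ
  have hrel : ∀ p : MvPolynomial ι A,
      aeval P.val p = aeval P.val (MvPolynomial.map (Ideal.Quotient.mk I) p) := by
    intro p
    simp only [aeval_def, eval₂_map]
    congr 1
    exact IsScalarTower.algebraMap_eq A (A ⧸ I) B
  have hle : Ideal.span (Set.range v) ≤ RingHom.ker (aeval (R := A) P.val) := by
    rw [Ideal.span_le]
    rintro _ ⟨j, rfl⟩
    rw [SetLike.mem_coe, RingHom.mem_ker, hrel, hv]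
    exact P.aeval_val_relation j
  obtain ⟨ψ1, hψ1⟩ : ∃ ψ1 : (MvPolynomial ι A ⧸ Ideal.span (Set.range v)) →ₐ[A] B,
      ∀ x, ψ1 (Ideal.Quotient.mk _ x) = aeval (R := A) P.val x :=
    ⟨Ideal.Quotient.liftₐ _ (aeval P.val) fun a ha => RingHom.mem_ker.1 (hle ha), fun x => rfl⟩
  refine ⟨ψ1, fun i => (hψ1 (X i)).trans (aeval_X (R := A) P.val i), ?_⟩
  have h : ψ1.comp (aeval (R := A) P1.val) = aeval (R := A) P.val := by
    refine MvPolynomial.algHom_ext (R := A) fun i => ?_
    rw [AlgHom.comp_apply, aeval_X, aeval_X, hval, hψ1, aeval_X]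
  have hj := P.jacobian_isUnit
  rw [Algebra.PreSubmersivePresentation.jacobian_eq_jacobiMatrix_det] at hj ⊢
  rw [P1.algebraMap_apply]
  rw [P.algebraMap_apply] at hj
  rw [← AlgHom.comp_apply, h]
  rw [hrel, RingHom.map_det]
  convert hj using 3
  ext i j
  simp [Algebra.PreSubmersivePresentation.jacobiMatrix_apply, MvPolynomial.pderiv_map, hrel1, hmap, ← hv]

/-- A map to a lift whose generators are those of the given presentation is an isomorphism mod `I`. -/
theorem nonempty_equiv {A B C : Type u} [CommRing A] (I : Ideal A) [CommRing B] [CommRing C]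
    [Algebra (A ⧸ I) B] [Algebra A B] [IsScalarTower A (A ⧸ I) B] [Algebra A C]
    {ι σ : Type} (P : Algebra.Presentation (A ⧸ I) B ι σ) (v : σ → MvPolynomial ι A)
    (hv : ∀ j, MvPolynomial.map (Ideal.Quotient.mk I) (v j) = P.relation j)
    (ψ : C →ₐ[A] B) (q : MvPolynomial ι A →ₐ[A] C) (hψq : ∀ i, ψ (q (X i)) = P.val i)
    (hqv : ∀ j, q (v j) = 0)
    (hext : ∀ f g : C →ₐ[A] C ⧸ I.map (algebraMap A C),
      (∀ i, f (q (X i)) = g (q (X i))) → f = g) :
    Nonempty ((C ⧸ I.map (algebraMap A C)) ≃ₐ[A] B) := by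
  have hI : ∀ a ∈ I, algebraMap A (C ⧸ I.map (algebraMap A C)) a = 0 := fun a ha => by
    show Ideal.Quotient.mk _ (algebraMap A C a) = 0
    exact Ideal.Quotient.eq_zero_iff_mem.2 (Ideal.mem_map_of_mem _ ha)
  let : Algebra (A ⧸ I) (C ⧸ I.map (algebraMap A C)) :=
    (Ideal.Quotient.lift I (algebraMap A (C ⧸ I.map (algebraMap A C))) hI).toAlgebra
  have : IsScalarTower A (A ⧸ I) (C ⧸ I.map (algebraMap A C)) := .of_algebraMap_eq fun a => rfl
  let q' : MvPolynomial ι A →ₐ[A] C ⧸ I.map (algebraMap A C) := (Ideal.Quotient.mkₐ A _).comp q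
  let φ0 : MvPolynomial ι (A ⧸ I) →ₐ[A ⧸ I] C ⧸ I.map (algebraMap A C) :=
    aeval fun i => q' (X i)
  have hφ0 : ∀ p, φ0 (MvPolynomial.map (Ideal.Quotient.mk I) p) = q' p := by
    intro p
    have : φ0.toRingHom.comp (MvPolynomial.map (Ideal.Quotient.mk I)) = q'.toRingHom := by
      refine MvPolynomial.ringHom_ext (fun a => ?_) fun i => ?_
      · simp only [φ0, RingHom.comp_apply, AlgHom.toRingHom_eq_coe, RingHom.coe_coe, map_C, aeval_C]
        exact (q'.commutes a).symm
      · simp [φ0]
    exact congr($this p)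
  have hker : RingHom.ker (aeval (R := A ⧸ I) P.val).toRingHom ≤ RingHom.ker φ0.toRingHom := by
    have h1 : RingHom.ker (aeval (R := A ⧸ I) P.val).toRingHom = P.ker := P.ker_eq_ker_aeval_val.symm
    rw [h1, ← P.span_range_relation_eq_ker, Ideal.span_le]
    rintro _ ⟨j, rfl⟩
    rw [SetLike.mem_coe, RingHom.mem_ker, ← hv j]
    refine (hφ0 (v j)).trans ?_
    simp [q', hqv]
  let φ : B →ₐ[A] C ⧸ I.map (algebraMap A C) := (AlgHom.liftOfSurjective (aeval (R := A ⧸ I) P.val)
    (fun b => ⟨P.σ b, P.aeval_val_σ b⟩) φ0 hker).restrictScalars A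
  have hφP : ∀ p, φ (aeval P.val p) = φ0 p := fun p =>
    AlgHom.liftOfSurjective_apply (aeval (R := A ⧸ I) P.val)
      (fun b => ⟨P.σ b, P.aeval_val_σ b⟩) φ0 hker p
  have hJ : I.map (algebraMap A C) ≤ RingHom.ker ψ := by
    rw [Ideal.map_le_iff_le_comap]
    intro a ha
    rw [Ideal.mem_comap, RingHom.mem_ker, ψ.commutes, IsScalarTower.algebraMap_apply A (A ⧸ I) B,
      Ideal.Quotient.algebraMap_eq, Ideal.Quotient.eq_zero_iff_mem.2 ha, map_zero]
  let ψ' : (C ⧸ I.map (algebraMap A C)) →ₐ[A] B :=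
    Ideal.Quotient.liftₐ _ ψ fun a ha => RingHom.mem_ker.1 (hJ ha)
  have hrel : ∀ p : MvPolynomial ι A,
      aeval P.val (MvPolynomial.map (Ideal.Quotient.mk I) p) = aeval (R := A) P.val p := by
    intro p
    simp only [aeval_def, eval₂_map]
    congr 1
    exact (IsScalarTower.algebraMap_eq A (A ⧸ I) B).symm
  refine ⟨AlgEquiv.ofAlgHom ψ' φ (AlgHom.ext fun b => ?_) ?_⟩
  · obtain ⟨p, hp⟩ := MvPolynomial.map_surjective (σ := ι) _ Ideal.Quotient.mk_surjective (P.σ b)
    rw [← P.aeval_val_σ b, ← hp]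
    rw [AlgHom.comp_apply, AlgHom.id_apply, hφP, hφ0, hrel]
    have : ψ.comp q = aeval (R := A) P.val := by
      refine MvPolynomial.algHom_ext (R := A) fun i => ?_
      rw [AlgHom.comp_apply, hψq, aeval_X]
    exact congr($this p)
  · refine Ideal.Quotient.algHom_ext A (hext _ _ fun i => ?_)
    show φ (ψ (q (X i))) = q' (X i)
    rw [hψq, ← aeval_X (R := A ⧸ I) P.val i, hφP, aeval_X]

set_option maxHeartbeats 800000 in
/-- An etale `A/I`-algebra is the reduction of an etale `A`-algebra. -/
theorem exists_lift (A : Type u) [CommRing A] (I : Ideal A) (B : Type u) [CommRing B]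
    [Algebra (A ⧸ I) B] [Algebra A B] [IsScalarTower A (A ⧸ I) B] [Algebra.Etale (A ⧸ I) B] :
    ∃ (C : Type u) (_ : CommRing C) (_ : Algebra A C), Algebra.Etale A C ∧
      Nonempty ((C ⧸ I.map (algebraMap A C)) ≃ₐ[A] B) := by
  classical
  obtain ⟨ι, σ, hσ, hι, P, hP⟩ := ((Algebra.Etale.iff_isStandardSmoothOfRelativeDimension_zero
    (R := A ⧸ I) (S := B)).1 ‹_›).out
  have hcard : Nat.card σ = Nat.card ι := by
    have h1 : Nat.card ι - Nat.card σ = 0 := hP
    have h2 := P.card_relations_le_card_vars_of_isFinite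
    omega
  choose v hv using fun j : σ =>
    MvPolynomial.map_surjective (σ := ι) (Ideal.Quotient.mk I) Ideal.Quotient.mk_surjective (P.relation j)
  let P1 := Algebra.PreSubmersivePresentation.naive (v := v) P.map P.map_inj
    (Function.surjInv (Ideal.Quotient.mk_surjective (I := Ideal.span (Set.range v))))
    (Function.surjInv_eq _)
  have hval : ∀ i, P1.val i = Ideal.Quotient.mk _ (X i) := fun i => rfl
  have hrel1 : ∀ j, P1.relation j = v j := fun j => rfl
  obtain ⟨ψ1, hψ1, hjac⟩ := exists_lift_aux I P v hv P1 hval hrel1 rfl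
  obtain ⟨d, hd⟩ : ∃ d, P1.jacobian = d := ⟨_, rfl⟩
  rw [hd] at hjac
  have hC : Algebra.Etale A (Localization.Away d) := hd ▸ etale_away_jacobian P1 hcard
  let S1 := MvPolynomial ι A ⧸ Ideal.span (Set.range v)
  let ψ : Localization.Away d →ₐ[A] B :=
    { IsLocalization.Away.lift (S := Localization.Away d) d (g := ψ1.toRingHom) hjac with
      commutes' := fun a => (IsLocalization.Away.lift_eq d hjac (algebraMap A S1 a)).trans (ψ1.commutes a) }
  let l : S1 →ₐ[A] Localization.Away d := IsScalarTower.toAlgHom A S1 (Localization.Away d)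
  let q : MvPolynomial ι A →ₐ[A] Localization.Away d :=
    l.comp (Ideal.Quotient.mkₐ A (Ideal.span (Set.range v)))
  have hψq : ∀ i, ψ (q (X i)) = P.val i := fun i =>
    (IsLocalization.Away.lift_eq d hjac _).trans (hψ1 i)
  have hqv : ∀ j, q (v j) = 0 := fun j => by
    show l (Ideal.Quotient.mk _ (v j)) = 0
    rw [Ideal.Quotient.eq_zero_iff_mem.2 (Ideal.subset_span (Set.mem_range_self j)), map_zero]
  refine ⟨Localization.Away d, inferInstance, inferInstance, hC,
    nonempty_equiv I P.toPresentation v hv ψ q hψq hqv fun f g hfg => ?_⟩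
  refine IsLocalization.algHom_ext (Submonoid.powers d) ?_
  refine Ideal.Quotient.algHom_ext A ?_
  exact MvPolynomial.algHom_ext (R := A) hfg

/-- An algebra map out of a product killing the second unit factors through the first factor. -/
theorem nonempty_hom_fst {A C P R : Type u} [CommRing A] [CommRing C] [CommRing P] [CommRing R]
    [Algebra A C] [Algebra A P] [Algebra A R] (g : C × P →ₐ[A] R) (h : g (0, 1) = 0) :
    Nonempty (C →ₐ[A] R) := by
  have hzero : ∀ x : P, g (0, x) = 0 := fun x => by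
    have : ((0, x) : C × P) = (0, x) * (0, 1) := by simp
    rw [this, map_mul, h, mul_zero]
  refine ⟨AlgHom.ofLinearMap (g.toLinearMap.comp (LinearMap.inl A C P)) ?_ fun a b => ?_⟩
  · show g ((1 : C), (0 : P)) = 1
    have h1 : g (((1 : C), (0 : P)) + ((0 : C), (1 : P))) = 1 := by
      rw [Prod.mk_add_mk, add_zero, zero_add]
      exact map_one g
    rwa [map_add, h, add_zero] at h1
  · show g (a * b, 0) = g (a, 0) * g (b, 0)
    rw [← map_mul, Prod.mk_mul_mk, mul_zero]

/-- The unit of a product of principal localizations dies when the elements do. -/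
theorem hom_pi_one_eq_zero {A C R : Type u} [CommRing A] [CommRing C] [CommRing R] [Algebra A C]
    [Algebra A R] {t : Finset A} (g : C × ((f : t) → Localization.Away f.1) →ₐ[A] R)
    (h : ∀ f : t, algebraMap A R f.1 = 0) : g (0, 1) = 0 := by
  classical
  have key : ((0, 1) : C × ((f : t) → Localization.Away f.1)) =
      ∑ f : t, f.1 • ((0 : C), Pi.single f (IsLocalization.Away.invSelf (S := Localization.Away f.1) f.1)) := by
    refine Prod.ext (by simp [Prod.fst_sum]) ?_
    rw [Prod.snd_sum]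
    refine funext fun k => ?_
    rw [Finset.sum_apply, Finset.sum_eq_single k]
    · simp [Algebra.smul_def, IsLocalization.Away.mul_invSelf]
    · intro f _ hf
      simp [Pi.single_eq_of_ne (Ne.symm hf)]
    · simp
  rw [key, map_sum]
  refine Finset.sum_eq_zero fun f _ => ?_
  rw [map_smul, Algebra.smul_def, h, zero_mul]

/-- A product of two etale algebras is etale, boolean-indexed form. -/
theorem etale_prod_bool (A : Type u) [CommRing A] (F : Bool → Type u) [∀ b, CommRing (F b)]
    [∀ b, Algebra A (F b)] [∀ b, Algebra.Etale A (F b)] : Algebra.Etale A (F false × F true) := by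
  let f : (∀ b, F b) ≃+* F false × F true :=
    { toFun := fun x => (x false, x true)
      invFun := fun p b => match b with | false => p.1 | true => p.2
      left_inv := fun x => funext fun b => match b with | false => rfl | true => rfl
      right_inv := fun _ => rfl
      map_mul' := fun _ _ => rfl
      map_add' := fun _ _ => rfl }
  exact Algebra.Etale.of_equiv (AlgEquiv.ofRingEquiv (f := f) fun _ => rfl)

/-- A product of two etale algebras is etale. -/
theorem etale_prod (A C P : Type u) [CommRing A] [i1 : CommRing C] [i2 : CommRing P]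
    [j1 : Algebra A C] [j2 : Algebra A P] [h1 : Algebra.Etale A C] [h2 : Algebra.Etale A P] :
    Algebra.Etale A (C × P) :=
  @etale_prod_bool A _ (fun b => Bool.rec C P b) (Bool.rec i1 i2) (Bool.rec j1 j2) (Bool.rec h1 h2)

/-- A product with principal localizations covering the complement is faithfully flat. -/
theorem faithfullyFlat_prod {A C : Type u} [CommRing A] [CommRing C] [Algebra A C] {t : Finset A}
    [Algebra.Etale A C]
    (ht : ∀ p : PrimeSpectrum A,
      p ∈ Set.range (PrimeSpectrum.comap (algebraMap A C)) ∨ ∃ f ∈ t, f ∉ p.asIdeal) :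
    Module.FaithfullyFlat A (C × ((f : t) → Localization.Away f.1)) := by
  classical
  let P := (f : t) → Localization.Away f.1
  have : ∀ f : t, Algebra.Etale A (Localization.Away f.1) := fun f =>
    Algebra.Etale.of_isLocalizationAway f.1
  have hP : Algebra.Etale A P := inferInstance
  have : Algebra.Etale A (C × P) := etale_prod A C P
  refine Module.FaithfullyFlat.of_comap_surjective fun p => ?_
  rcases ht p with ⟨q, hq⟩ | ⟨f, hf, hfp⟩
  · refine ⟨PrimeSpectrum.comap (RingHom.fst C P) q, ?_⟩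
    rw [← hq, ← PrimeSpectrum.comap_comp_apply]
    rfl
  · obtain ⟨q, hq⟩ := (Set.ext_iff.1
      (PrimeSpectrum.localization_away_comap_range (Localization.Away f) f) p).2 hfp
    let π : C × P →+* Localization.Away f :=
      (Pi.evalRingHom (fun f : t => Localization.Away f.1) ⟨f, hf⟩).comp (RingHom.snd C P)
    refine ⟨PrimeSpectrum.comap π q, ?_⟩
    rw [← hq, ← PrimeSpectrum.comap_comp_apply]
    rfl

set_option maxHeartbeats 400000 in
/-- Retractions of faithfully flat etale algebras pass to quotients. -/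
theorem exists_ff_lift (A : Type u) [CommRing A] (I : Ideal A) (B : Type u) [CommRing B]
    [Algebra (A ⧸ I) B] [Algebra A B] [IsScalarTower A (A ⧸ I) B] [Algebra.Etale (A ⧸ I) B]
    [Module.FaithfullyFlat (A ⧸ I) B] :
    ∃ (D : Type u) (_ : CommRing D) (_ : Algebra A D), Algebra.Etale A D ∧ Module.FaithfullyFlat A D ∧
      ∀ (R : Type u) [CommRing R] [Algebra A R], (∀ a ∈ I, algebraMap A R a = 0) →
        (D →ₐ[A] R) → Nonempty (B →ₐ[A] R) := by
  classical
  obtain ⟨C, _, _, hC, ⟨e⟩⟩ := exists_lift A I B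
  have hZ : PrimeSpectrum.zeroLocus (I : Set A) ⊆ Set.range (PrimeSpectrum.comap (algebraMap A C)) := by
    intro p hp
    let p' : PrimeSpectrum (A ⧸ I) := ⟨p.asIdeal.map (Ideal.Quotient.mk I),
      Ideal.map_isPrime_of_surjective Ideal.Quotient.mk_surjective (by rwa [Ideal.mk_ker])⟩
    obtain ⟨q, hq⟩ := PrimeSpectrum.comap_surjective_of_faithfullyFlat (A := A ⧸ I) (B := B) p'
    refine ⟨PrimeSpectrum.comap ((e.toAlgHom : (C ⧸ I.map (algebraMap A C)) →ₐ[A] B).comp
      (Ideal.Quotient.mkₐ A _)).toRingHom q, PrimeSpectrum.ext ?_⟩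
    show (q.asIdeal.comap _).comap (algebraMap A C) = p.asIdeal
    rw [Ideal.comap_comap, AlgHom.toRingHom_eq_coe, AlgHom.comp_algebraMap,
      IsScalarTower.algebraMap_eq A (A ⧸ I) B, ← Ideal.comap_comap,
      show q.asIdeal.comap (algebraMap (A ⧸ I) B) = _ from congrArg PrimeSpectrum.asIdeal hq]
    show (p.asIdeal.map (Ideal.Quotient.mk I)).comap (Ideal.Quotient.mk I) = _
    rw [Ideal.comap_map_of_surjective _ Ideal.Quotient.mk_surjective, ← RingHom.ker_eq_comap_bot,
      Ideal.mk_ker, sup_eq_left]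
    exact hp
  have hopen : IsOpen (Set.range (PrimeSpectrum.comap (algebraMap A C))) :=
    (PrimeSpectrum.isOpenMap_comap_of_hasGoingDown_of_finitePresentation).isOpen_range
  obtain ⟨t, htI, ht⟩ : ∃ t : Finset A, (t : Set A) ⊆ I ∧ ∀ p : PrimeSpectrum A,
      p ∈ Set.range (PrimeSpectrum.comap (algebraMap A C)) ∨ ∃ f ∈ t, f ∉ p.asIdeal := by
    obtain ⟨t, ht⟩ := hopen.isClosed_compl.isCompact.elim_finite_subcover
      (fun f : I => (PrimeSpectrum.basicOpen f.1 : Set (PrimeSpectrum A)))
      (fun f => PrimeSpectrum.isOpen_basicOpen) (fun p hp => by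
        have : ¬ (I : Set A) ⊆ p.asIdeal := fun h => hp (hZ h)
        obtain ⟨f, hf, hfp⟩ := Set.not_subset.1 this
        exact Set.mem_iUnion.2 ⟨⟨f, hf⟩, hfp⟩)
    refine ⟨t.image Subtype.val, by intro x; simp +contextual, fun p => ?_⟩
    by_cases hp : p ∈ Set.range (PrimeSpectrum.comap (algebraMap A C))
    · exact Or.inl hp
    · obtain ⟨f, hf, hfp⟩ := Set.mem_iUnion₂.1 (ht hp)
      exact Or.inr ⟨f.1, Finset.mem_image_of_mem _ hf, hfp⟩
  let D := C × ((f : t) → Localization.Away f.1)
  have : ∀ f : t, Algebra.Etale A (Localization.Away f.1) := fun f =>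
    Algebra.Etale.of_isLocalizationAway f.1
  have : Algebra.Etale A C := hC
  have hD : Algebra.Etale A D := etale_prod A C _
  have hff : Module.FaithfullyFlat A D := faithfullyFlat_prod ht
  refine ⟨D, inferInstance, inferInstance, hD, hff, fun R _ _ hR g => ?_⟩
  obtain ⟨g1⟩ := nonempty_hom_fst g (hom_pi_one_eq_zero g fun f => hR _ (htI f.2))
  refine ⟨(Ideal.Quotient.liftₐ _ g1 fun c hc => ?_).comp e.symm.toAlgHom⟩
  have : I.map (algebraMap A C) ≤ RingHom.ker g1 := by
    rw [Ideal.map_le_iff_le_comap]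
    intro a ha
    rw [Ideal.mem_comap, RingHom.mem_ker, g1.commutes, hR a ha]
  exact this hc

end Groth.Agent.IndAlg.EtaleLift
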