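import Groth.Agent.IndAlg.Basic
import Mathlib.RingTheory.LocalIso
import Mathlib.RingTheory.Localization.Away.Basic
import Mathlib.RingTheory.Localization.Finiteness
import Groth.Prelude.Def_PBC

/-!
Localizations are ind-Zariski.
-/

universe u

namespace Groth.Agent.IndAlg.Localization

open Groth.Agent.IndAlg

/-- The predicate "standard open immersion". -/
def SOI (A : Type u) [CommRing A] : ∀ (E : Type u) [CommRing E] [Algebra A E], Prop :=
  fun E _ _ => Algebra.IsStandardOpenImmersion A E

theorem soi_fp {A : Type u} [CommRing A] (E : Type u) [CommRing E] [Algebra A E] (h : SOI A E) :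
    Algebra.FinitePresentation A E := by
  obtain ⟨r, hr⟩ := Algebra.IsStandardOpenImmersion.exists_away A E (self := h)
  exact IsLocalization.Away.finitePresentation r

theorem soi_iso {A : Type u} [CommRing A] (E E' : Type u) [CommRing E] [Algebra A E] [CommRing E']
    [Algebra A E'] (e : E ≃ₐ[A] E') (h : SOI A E) : SOI A E' :=
  have : Algebra.IsStandardOpenImmersion A E := h
  Algebra.IsStandardOpenImmersion.of_algEquiv e

variable {A B : Type u} [CommRing A] [CommRing B] [Algebra A B]

theorem exists_map (S : Submonoid A) [IsLocalization S B] (s : S) :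
    ∃ w : Localization.Away (s : A) →ₐ[A] B, True := by
  have h : ∀ y : Submonoid.powers (s : A), IsUnit (algebraMap A B y) := by
    rintro ⟨_, n, rfl⟩
    rw [map_pow]
    exact (IsLocalization.map_units B s).pow n
  exact ⟨{ IsLocalization.lift (M := Submonoid.powers (s : A)) (S := Localization.Away (s : A)) h with
    commutes' := fun a => IsLocalization.lift_eq h a }, trivial⟩

theorem fac_localization (S : Submonoid A) [IsLocalization S B] : Fac (SOI A) B := by
  classical
  intro Z _ _ hZ g
  obtain ⟨n, f, hf, rel, hrel⟩ := hZ.out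
  choose a t hat using fun k : Fin n => IsLocalization.exists_mk'_eq S (g (f (MvPolynomial.X k)))
  let s0 : S := ∏ k, t k
  obtain ⟨w0, -⟩ := exists_map (B := B) S s0
  have hk : ∀ k, (s0 : A) = (∏ i ∈ Finset.univ.erase k, (t i : A)) * (t k : A) := by
    intro k
    rw [Submonoid.coe_finsetProd, Finset.prod_erase_mul _ _ (Finset.mem_univ k)]
  let x0 : Fin n → Localization.Away (s0 : A) := fun k =>
    IsLocalization.mk' (M := Submonoid.powers (s0 : A)) _
      (a k * ∏ i ∈ Finset.univ.erase k, (t i : A)) ⟨(s0 : A), Submonoid.mem_powers _⟩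
  have hx0 : ∀ k, w0 (x0 k) = g (f (MvPolynomial.X k)) := by
    intro k
    have h1 := congrArg w0 (IsLocalization.mk'_spec (Localization.Away (s0 : A))
      (a k * ∏ i ∈ Finset.univ.erase k, (t i : A)) (⟨(s0 : A), Submonoid.mem_powers _⟩ : Submonoid.powers (s0 : A)))
    rw [map_mul, AlgHom.commutes, AlgHom.commutes] at h1
    refine (IsLocalization.map_units B s0).mul_left_inj.1 (h1.trans ?_)
    rw [← hat k, hk k, map_mul, map_mul, mul_comm (algebraMap A B (a k)), ← mul_assoc,
      mul_comm (IsLocalization.mk' B (a k) (t k)), mul_assoc, IsLocalization.mk'_spec]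
  have hval : w0.comp (MvPolynomial.aeval x0) = g.comp f := by
    ext k; simp [hx0]
  have hkill : ∀ p ∈ rel, ∃ c : S, ∀ (R : Type u) [CommRing R] [Algebra A R]
      (φ : Localization.Away (s0 : A) →ₐ[A] R), IsUnit (algebraMap A R c) →
        φ (MvPolynomial.aeval x0 p) = 0 := by
    intro p hp
    have h0 : f p = 0 := by
      have := Ideal.subset_span (α := MvPolynomial (Fin n) A) hp
      rw [hrel] at this
      exact this
    obtain ⟨b, ⟨d, hd⟩, hb⟩ := IsLocalization.exists_mk'_eq (Submonoid.powers (s0 : A))
      (MvPolynomial.aeval x0 p)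
    have h2 := IsLocalization.mk'_spec (Localization.Away (s0 : A)) b (⟨d, hd⟩ : Submonoid.powers (s0 : A))
    rw [hb] at h2
    have h3 := congrArg w0 h2
    rw [map_mul, AlgHom.commutes, AlgHom.commutes,
      show w0 (MvPolynomial.aeval x0 p) = g (f p) from congr($hval p), h0, map_zero, zero_mul] at h3
    obtain ⟨c, hc⟩ := (IsLocalization.map_eq_zero_iff S B b).1 h3.symm
    refine ⟨c, fun R _ _ φ hu => ?_⟩
    have h4 := congrArg φ h2
    rw [map_mul, AlgHom.commutes, AlgHom.commutes] at h4
    have h5 : algebraMap A R b = 0 := by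
      refine hu.mul_right_eq_zero.1 ?_
      rw [← map_mul, hc, map_zero]
    have hdu : IsUnit (algebraMap A R d) := by
      obtain ⟨m, rfl⟩ := hd
      rw [map_pow, ← φ.commutes]
      exact ((IsLocalization.Away.algebraMap_isUnit (S := Localization.Away (s0 : A)) (s0 : A)).map φ).pow m
    exact hdu.mul_left_eq_zero.1 (h4.trans h5)
  choose c hc using hkill
  let s : S := s0 * ∏ p ∈ rel.attach, c p.1 p.2
  obtain ⟨w, -⟩ := exists_map (B := B) S s
  let R := Localization.Away (s : A)
  have hsu : IsUnit (algebraMap A R (s : A)) := IsLocalization.Away.algebraMap_isUnit (s : A)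
  have hs0u : IsUnit (algebraMap A R (s0 : A)) :=
    isUnit_of_dvd_unit ((algebraMap A R).map_dvd (by simp [s])) hsu
  let φ : Localization.Away (s0 : A) →ₐ[A] R :=
    { IsLocalization.Away.lift (S := Localization.Away (s0 : A)) (s0 : A) hs0u with
      commutes' := fun a => IsLocalization.Away.lift_eq (s0 : A) hs0u a }
  let V : MvPolynomial (Fin n) A →ₐ[A] R := φ.comp (MvPolynomial.aeval x0)
  have hker : RingHom.ker f.toRingHom ≤ RingHom.ker V.toRingHom := by
    rw [← hrel, Ideal.span_le]
    intro p hp
    refine hc p hp R φ (isUnit_of_dvd_unit ((algebraMap A R).map_dvd ?_) hsu)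
    have : (c p hp : A) ∣ ((∏ p ∈ rel.attach, c p.1 p.2 : S) : A) := by
      rw [Submonoid.coe_finsetProd]
      exact Finset.dvd_prod_of_mem (fun q : rel => ((c q.1 q.2 : S) : A)) (Finset.mem_attach _ ⟨p, hp⟩)
    exact this.trans (dvd_mul_left _ _)
  refine ⟨R, inferInstance, inferInstance, (inferInstance : Algebra.IsStandardOpenImmersion A R),
    AlgHom.liftOfSurjective f hf V hker, w, ?_⟩
  refine (AlgHom.cancel_right hf).1 ?_
  rw [AlgHom.comp_assoc, AlgHom.liftOfSurjective_comp, ← hval, ← AlgHom.comp_assoc]
  congr 1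
  have : Subsingleton (Localization.Away (s0 : A) →ₐ[A] B) :=
    IsLocalization.algHom_subsingleton (Submonoid.powers (s0 : A))
  exact Subsingleton.elim _ _

theorem isIndZariski (S : Submonoid A) [IsLocalization S B] : EtPBC.IsIndZariski A B := by
  obtain ⟨J, i1, i2, D, c, hc, hQ, he⟩ := isInd_of_fac soi_fp soi_iso (fac_localization (B := B) S)
  refine ⟨J, i1, i2, D, c, hc, fun j => ?_, he⟩
  let : Algebra A (D.obj j).right := (D.obj j).hom.hom.toAlgebra
  have : Algebra.IsStandardOpenImmersion A (D.obj j).right := hQ j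
  show Algebra.IsLocalIso A (D.obj j).right
  infer_instance

end Groth.Agent.IndAlg.Localization
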