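import Mathlib.Algebra.Category.Ring.FinitePresentation
import Mathlib.Algebra.Category.Ring.FilteredColimits
import Mathlib.Algebra.Category.Ring.Under.Basic
import Mathlib.CategoryTheory.Limits.Preserves.Over
import Mathlib.RingTheory.FinitePresentation
import Mathlib.RingTheory.FiniteStability
import Mathlib.CategoryTheory.Limits.Constructions.Over.Connected

/-!
Ind-`Q` algebras: a filtered colimit of algebras with property `Q` is the same as an algebra such
that every map from a finitely presented algebra factors through an algebra with property `Q`.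
-/

universe u

open CategoryTheory CategoryTheory.Limits

namespace Groth.Agent.IndAlg

variable {A : Type u} [CommRing A]

/-- `B` is a filtered colimit of `Q`-algebras. -/
def IsInd (Q : ∀ (E : Type u) [CommRing E] [Algebra A E], Prop)
    (B : Type u) [CommRing B] [Algebra A B] : Prop :=
  ∃ (J : Type u) (_ : SmallCategory J) (_ : IsFiltered J) (D : J ⥤ Under (CommRingCat.of A))
    (c : Cocone D) (_ : IsColimit c),
    (∀ j, letI := (D.obj j).hom.hom.toAlgebra; Q (D.obj j).right) ∧
    Nonempty (c.pt ≅ Under.mk (CommRingCat.ofHom (algebraMap A B)))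

/-- Every map from a finitely presented algebra to `B` factors through a `Q`-algebra. -/
def Fac (Q : ∀ (E : Type u) [CommRing E] [Algebra A E], Prop)
    (B : Type u) [CommRing B] [Algebra A B] : Prop :=
  ∀ (Z : Type u) [CommRing Z] [Algebra A Z], Algebra.FinitePresentation A Z → ∀ g : Z →ₐ[A] B,
    ∃ (E : Type u) (_ : CommRing E) (_ : Algebra A E),
      Q E ∧ ∃ (v : Z →ₐ[A] E) (w : E →ₐ[A] B), w.comp v = g

variable {Q : ∀ (E : Type u) [CommRing E] [Algebra A E], Prop}

theorem fac_self {B : Type u} [CommRing B] [Algebra A B] (h : Q B) : Fac Q B :=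
  fun _ _ _ _ g => ⟨B, inferInstance, inferInstance, h, g, AlgHom.id A B, AlgHom.id_comp g⟩

theorem fac_mono {Q' : ∀ (E : Type u) [CommRing E] [Algebra A E], Prop}
    {B : Type u} [CommRing B] [Algebra A B]
    (h : ∀ (E : Type u) [CommRing E] [Algebra A E], Q E → Fac Q' E) (hB : Fac Q B) : Fac Q' B := by
  intro Z _ _ hZ g
  obtain ⟨E, _, _, hE, v, w, rfl⟩ := hB Z hZ g
  obtain ⟨E', _, _, hE', v', w', rfl⟩ := h E hE Z hZ v
  exact ⟨E', inferInstance, inferInstance, hE', v', w.comp w', rfl⟩

theorem fac_algEquiv {B B' : Type u} [CommRing B] [Algebra A B] [CommRing B'] [Algebra A B']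
    (e : B ≃ₐ[A] B') (h : Fac Q B) : Fac Q B' := by
  intro Z _ _ hZ g
  obtain ⟨E, _, _, hE, v, w, hw⟩ := h Z hZ (e.symm.toAlgHom.comp g)
  refine ⟨E, inferInstance, inferInstance, hE, v, e.toAlgHom.comp w, ?_⟩
  ext z
  simp [show w (v z) = e.symm (g z) from congr($hw z)]

theorem fac_of_isInd {B : Type u} [CommRing B] [Algebra A B] (h : IsInd Q B) : Fac Q B := by
  obtain ⟨J, _, _, D, c, hc, hQ, ⟨e⟩⟩ := h
  intro Z _ _ hZ g
  let S : Under (CommRingCat.of A) := CommRingCat.mkUnder (CommRingCat.of A) Z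
  have hS : S.hom.hom.FinitePresentation :=
    (RingHom.finitePresentation_algebraMap (A := A) (B := Z)).2 hZ
  have : IsFinitelyPresentable.{u} S := CommRingCat.isFinitelyPresentable_under _ S hS
  let g' : S ⟶ Under.mk (CommRingCat.ofHom (algebraMap A B)) := AlgHom.toUnder g
  obtain ⟨j, q, hq⟩ := IsFinitelyPresentable.exists_hom_of_isColimit hc (g' ≫ e.inv)
  let alg : Algebra A (D.obj j).right := (D.obj j).hom.hom.toAlgebra
  let q' : Z →ₐ[A] (D.obj j).right :=
    { toRingHom := q.right.hom
      commutes' := fun a => congr($(Under.w q) a) }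
  let w : (D.obj j).right →ₐ[A] B :=
    { toRingHom := (c.ι.app j ≫ e.hom).right.hom
      commutes' := fun a => congr($(Under.w (c.ι.app j ≫ e.hom)) a) }
  refine ⟨(D.obj j).right, inferInstance, alg, hQ j, q', w, ?_⟩
  have h2 : q ≫ c.ι.app j ≫ e.hom = g' := by
    rw [← Category.assoc, hq, Category.assoc, e.inv_hom_id, Category.comp_id]
  exact AlgHom.ext fun z => congr($(h2).right z)

theorem fac_of_isColimit {B : Type u} [CommRing B] [Algebra A B]
    {J : Type u} [SmallCategory J] [IsFiltered J] {D : J ⥤ Under (CommRingCat.of A)}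
    (hD : ∀ j, letI := (D.obj j).hom.hom.toAlgebra; Fac Q (D.obj j).right)
    {c : Cocone D} (hc : IsColimit c)
    (e : c.pt ≅ Under.mk (CommRingCat.ofHom (algebraMap A B))) : Fac Q B :=
  fac_mono (Q := fun E _ _ => Fac Q E) (fun _ _ _ h => h)
    (fac_of_isInd ⟨J, inferInstance, inferInstance, D, c, hc, hD, ⟨e⟩⟩)

/-- An index object: a presented algebra with property `Q` together with a map to `B`. -/
structure Obj (Q : ∀ (E : Type u) [CommRing E] [Algebra A E], Prop)
    (B : Type u) [CommRing B] [Algebra A B] : Type u where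
  n : ℕ
  rel : Finset (MvPolynomial (Fin n) A)
  val : Fin n → B
  hrel : ∀ p ∈ rel, MvPolynomial.aeval val p = 0
  hQ : Q (MvPolynomial (Fin n) A ⧸ Ideal.span (rel : Set (MvPolynomial (Fin n) A)))

namespace Obj

variable {B : Type u} [CommRing B] [Algebra A B]

/-- The algebra of an index object. -/
abbrev Ring (i : Obj Q B) : Type u :=
  MvPolynomial (Fin i.n) A ⧸ Ideal.span (i.rel : Set (MvPolynomial (Fin i.n) A))

/-- The map to `B`. -/
noncomputable def toB (i : Obj Q B) : i.Ring →ₐ[A] B :=
  Ideal.Quotient.liftₐ _ (MvPolynomial.aeval i.val) fun a ha => by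
    have hle : Ideal.span (i.rel : Set (MvPolynomial (Fin i.n) A)) ≤
        RingHom.ker (MvPolynomial.aeval i.val) := Ideal.span_le.2 i.hrel
    exact hle ha

noncomputable instance : Category.{u} (Obj Q B) where
  Hom i j := {f : i.Ring →ₐ[A] j.Ring // j.toB.comp f = i.toB}
  id i := ⟨AlgHom.id A _, AlgHom.comp_id _⟩
  comp f g := ⟨g.1.comp f.1, by rw [← AlgHom.comp_assoc, g.2, f.2]⟩

theorem exists_obj (hiso : ∀ (E E' : Type u) [CommRing E] [Algebra A E] [CommRing E'] [Algebra A E'],
      (E ≃ₐ[A] E') → Q E → Q E')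
    (E : Type u) [CommRing E] [Algebra A E] [Algebra.FinitePresentation A E] (hE : Q E)
    (w : E →ₐ[A] B) : ∃ (i : Obj Q B) (e : E ≃ₐ[A] i.Ring), i.toB.comp e.toAlgHom = w := by
  obtain ⟨n, f, hf, s, hs⟩ := Algebra.FinitePresentation.out (R := A) (A := E)
  have hker : RingHom.ker f.toRingHom = Ideal.span (s : Set (MvPolynomial (Fin n) A)) := hs.symm
  let e : (MvPolynomial (Fin n) A ⧸ Ideal.span (s : Set (MvPolynomial (Fin n) A))) ≃ₐ[A] E :=
    (Ideal.quotientEquivAlgOfEq A hker.symm).trans (Ideal.quotientKerAlgEquivOfSurjective hf)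
  have hval : MvPolynomial.aeval (fun k => w (f (MvPolynomial.X k))) = w.comp f := by
    ext k; simp
  refine ⟨⟨n, s, fun k => w (f (MvPolynomial.X k)), fun p hp => ?_, hiso _ _ e.symm hE⟩, e.symm, ?_⟩
  · have h0 : f p = 0 := by
      have := Ideal.subset_span (α := MvPolynomial (Fin n) A) hp
      rw [← hker] at this
      exact this
    rw [hval, AlgHom.comp_apply, h0, map_zero]
  · refine AlgHom.ext fun x => ?_
    obtain ⟨y, rfl⟩ := e.surjective x
    obtain ⟨p, rfl⟩ := Ideal.Quotient.mk_surjective y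
    rw [AlgHom.comp_apply]
    refine (congrArg (Obj.toB _) (e.symm_apply_apply _)).trans ?_
    exact congr($hval p)

end Obj

/-- Any `B` satisfying the factorization criterion is a filtered colimit of `Q`-algebras. -/
theorem isInd_of_fac {B : Type u} [CommRing B] [Algebra A B]
    (hfp : ∀ (E : Type u) [CommRing E] [Algebra A E], Q E → Algebra.FinitePresentation A E)
    (hiso : ∀ (E E' : Type u) [CommRing E] [Algebra A E] [CommRing E'] [Algebra A E'],
      (E ≃ₐ[A] E') → Q E → Q E')
    (h : Fac Q B) : IsInd Q B := by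
  classical
  have key : ∀ (Z : Type u) [CommRing Z] [Algebra A Z], Algebra.FinitePresentation A Z →
      ∀ g : Z →ₐ[A] B, ∃ (i : Obj Q B) (v : Z →ₐ[A] i.Ring), i.toB.comp v = g := by
    intro Z _ _ hZ g
    obtain ⟨E, _, _, hE, v, w, rfl⟩ := h Z hZ g
    have := hfp E hE
    obtain ⟨i, e, rfl⟩ := Obj.exists_obj hiso E hE w
    exact ⟨i, e.toAlgHom.comp v, (AlgHom.comp_assoc _ _ _).symm⟩
  have hfpR : ∀ i : Obj Q B, Algebra.FinitePresentation A i.Ring := fun i => hfp _ i.hQ
  have : Nonempty (Obj Q B) :=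
    let ⟨i, _, _⟩ := key A inferInstance (Algebra.ofId A B)
    ⟨i⟩
  have hmaps : ∀ ⦃i j : Obj Q B⦄ (f g : i ⟶ j), ∃ (k : Obj Q B) (h : j ⟶ k), f ≫ h = g ≫ h := by
    intro i j f g
    let s : Finset j.Ring := Finset.univ.image fun k : Fin i.n =>
      f.1 (Ideal.Quotient.mk _ (MvPolynomial.X k)) - g.1 (Ideal.Quotient.mk _ (MvPolynomial.X k))
    have hle : Ideal.span (s : Set j.Ring) ≤ RingHom.ker j.toB := by
      rw [Ideal.span_le]
      intro x hx
      obtain ⟨k, -, rfl⟩ := Finset.mem_image.1 hx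
      rw [SetLike.mem_coe, RingHom.mem_ker, map_sub, sub_eq_zero]
      exact (congr($(f.2) _)).trans (congr($(g.2) _)).symm
    have := hfpR j
    obtain ⟨k, v, hv⟩ := key (j.Ring ⧸ Ideal.span (s : Set j.Ring))
      (Algebra.FinitePresentation.quotient ⟨s, rfl⟩)
      (Ideal.Quotient.liftₐ _ j.toB fun a ha => hle ha)
    refine ⟨k, ⟨v.comp (Ideal.Quotient.mkₐ A _), ?_⟩, ?_⟩
    · rw [← AlgHom.comp_assoc, hv]; rfl
    · refine Subtype.ext ?_
      show (v.comp (Ideal.Quotient.mkₐ A _)).comp f.1 = (v.comp (Ideal.Quotient.mkₐ A _)).comp g.1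
      refine Ideal.Quotient.algHom_ext _ (MvPolynomial.algHom_ext fun k => ?_)
      refine congrArg v (Ideal.Quotient.eq.2 (Ideal.subset_span ?_))
      exact Finset.mem_image.2 ⟨k, Finset.mem_univ _, rfl⟩
  have : IsFiltered (Obj Q B) :=
    { cocone_objs := fun i j => by
        have := hfpR i
        have := hfpR j
        obtain ⟨k, v, hv⟩ := key (TensorProduct A i.Ring j.Ring)
          (Algebra.FinitePresentation.trans A i.Ring _)
          (Algebra.TensorProduct.productMap i.toB j.toB)
        refine ⟨k, ⟨v.comp Algebra.TensorProduct.includeLeft, ?_⟩,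
          ⟨v.comp Algebra.TensorProduct.includeRight, ?_⟩, trivial⟩
        · rw [← AlgHom.comp_assoc, hv, Algebra.TensorProduct.productMap_left]
        · rw [← AlgHom.comp_assoc, hv, Algebra.TensorProduct.productMap_right]
      cocone_maps := hmaps }
  let D : Obj Q B ⥤ Under (CommRingCat.of A) :=
    { obj := fun i => CommRingCat.mkUnder (CommRingCat.of A) i.Ring
      map := fun f => AlgHom.toUnder f.1
      map_id := fun _ => rfl
      map_comp := fun _ _ => rfl }
  let c : Cocone D :=
    { pt := CommRingCat.mkUnder (CommRingCat.of A) B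
      ι :=
        { app := fun i => AlgHom.toUnder i.toB
          naturality := fun i j f => by
            refine CommRingCat.mkUnder_ext fun x => ?_
            exact congr($(f.2) x) } }
  let F : Under (CommRingCat.of A) ⥤ Type u :=
    Under.forget (CommRingCat.of A) ⋙ forget CommRingCat.{u}
  have : PreservesColimitsOfShape (Obj Q B) F := inferInstance
  have : F.ReflectsIsomorphisms := inferInstance
  have : IsConnected (Obj Q B) := IsFiltered.isConnected _
  have : HasColimitsOfShape (Obj Q B) (Under (CommRingCat.of A)) := inferInstance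
  have := reflectsColimitsOfShape_of_reflectsIsomorphisms (J := Obj Q B) (G := F)
  have hcF : IsColimit (F.mapCocone c) := by
    refine Types.FilteredColimit.isColimitOf' _ _ ?_ ?_
    · intro (x : B)
      obtain ⟨i, v, hv⟩ := key (MvPolynomial (ULift.{u} Unit) A) inferInstance
        (MvPolynomial.aeval fun _ => x)
      refine ⟨i, v (MvPolynomial.X ⟨()⟩), ?_⟩
      have := congr($hv (MvPolynomial.X ⟨()⟩))
      rw [MvPolynomial.aeval_X] at this
      exact this.symm
    · intro i (x : i.Ring) (y : i.Ring) hxy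
      have hle : Ideal.span {x - y} ≤ RingHom.ker i.toB := by
        rw [Ideal.span_singleton_le_iff_mem, RingHom.mem_ker, map_sub, sub_eq_zero]
        exact hxy
      have := hfpR i
      obtain ⟨k, v, hv⟩ := key (i.Ring ⧸ Ideal.span {x - y})
        (Algebra.FinitePresentation.quotient ⟨{x - y}, by simp⟩)
        (Ideal.Quotient.liftₐ _ i.toB fun a ha => hle ha)
      refine ⟨k, ⟨v.comp (Ideal.Quotient.mkₐ A _), ?_⟩, ?_⟩
      · rw [← AlgHom.comp_assoc, hv]; rfl
      · exact congrArg v (Ideal.Quotient.eq.2 (Ideal.subset_span rfl))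
  refine ⟨Obj Q B, inferInstance, inferInstance, D, c, isColimitOfReflects F hcF, fun i => ?_,
    ⟨Iso.refl _⟩⟩
  have hAlg : (D.obj i).hom.hom.toAlgebra = (inferInstance : Algebra A i.Ring) :=
    Algebra.algebra_ext _ _ fun a => rfl
  show @Q i.Ring _ (D.obj i).hom.hom.toAlgebra
  rw [hAlg]
  exact i.hQ

theorem isInd_iff_fac {B : Type u} [CommRing B] [Algebra A B]
    (hfp : ∀ (E : Type u) [CommRing E] [Algebra A E], Q E → Algebra.FinitePresentation A E)
    (hiso : ∀ (E E' : Type u) [CommRing E] [Algebra A E] [CommRing E'] [Algebra A E'],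
      (E ≃ₐ[A] E') → Q E → Q E') :
    IsInd Q B ↔ Fac Q B :=
  ⟨fac_of_isInd, isInd_of_fac hfp hiso⟩

end Groth.Agent.IndAlg
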