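import Groth.Agent.IndAlg.Etale
import Mathlib.Algebra.MvPolynomial.Rename
import Mathlib.RingTheory.RingHom.FaithfullyFlat
import Mathlib.RingTheory.Flat.FaithfullyFlat.Algebra
import Mathlib.FieldTheory.IsAlgClosed.AlgebraicClosure
import Mathlib.RingTheory.Nullstellensatz

/-!
The tensor product of all faithfully flat etale algebras.
-/

universe u

namespace Groth.Agent.IndAlg.EtCover

open Groth.Agent.IndAlg

variable (A : Type u) [CommRing A]

/-- A finite presentation. -/
structure Pres where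
  n : ℕ
  rel : Finset (MvPolynomial (Fin n) A)

variable {A}

/-- The presented algebra. -/
abbrev Pres.Ring (p : Pres A) : Type u :=
  MvPolynomial (Fin p.n) A ⧸ Ideal.span (p.rel : Set (MvPolynomial (Fin p.n) A))

variable (A) in
/-- Indices: presentations of faithfully flat etale algebras. -/
abbrev Idx : Type u := {p : Pres A // Algebra.Etale A p.Ring ∧ Module.FaithfullyFlat A p.Ring}

theorem exists_pres {E : Type u} [CommRing E] [Algebra A E] [Algebra.Etale A E]
    (h : Module.FaithfullyFlat A E) : ∃ i : Idx A, Nonempty (i.1.Ring ≃ₐ[A] E) := by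
  obtain ⟨n, f, hf, s, hs⟩ :=
    (inferInstance : Algebra.FinitePresentation A E).out
  let p : Pres A := ⟨n, s⟩
  let e : p.Ring ≃ₐ[A] E :=
    (Ideal.quotientEquivAlgOfEq A hs).trans (Ideal.quotientKerAlgEquivOfSurjective hf)
  exact ⟨⟨p, Algebra.Etale.of_equiv e.symm, Module.FaithfullyFlat.of_linearEquiv A E e.toLinearEquiv⟩,
    ⟨e⟩⟩

variable {κ : Type u} (f : κ → Idx A)

/-- The variables. -/
abbrev Var : Type u := Σ k : κ, Fin (f k).1.n

/-- The relations. -/
def rels : Set (MvPolynomial (Var f) A) :=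
  Set.range fun x : Σ k : κ, {p // p ∈ (f k).1.rel} =>
    MvPolynomial.rename (fun i => (⟨x.1, i⟩ : Var f)) x.2.1

/-- The tensor product of the algebras `f k`. -/
abbrev Ten : Type u := MvPolynomial (Var f) A ⧸ Ideal.span (rels f)

/-- The factors. -/
noncomputable def inc (k : κ) : (f k).1.Ring →ₐ[A] Ten f :=
  Ideal.Quotient.liftₐ _ ((Ideal.Quotient.mkₐ A _).comp (MvPolynomial.rename fun i => (⟨k, i⟩ : Var f)))
    fun p hp => by
      have : Ideal.span ((f k).1.rel : Set _) ≤ RingHom.ker ((Ideal.Quotient.mkₐ A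
          (Ideal.span (rels f))).comp (MvPolynomial.rename fun i => (⟨k, i⟩ : Var f))).toRingHom := by
        rw [Ideal.span_le]
        intro q hq
        exact Ideal.Quotient.eq_zero_iff_mem.2 (Ideal.subset_span ⟨⟨k, q, hq⟩, rfl⟩)
      exact this hp

theorem inc_mk (k : κ) (i : Fin (f k).1.n) :
    inc f k (Ideal.Quotient.mk _ (MvPolynomial.X i)) =
      Ideal.Quotient.mk _ (MvPolynomial.X (⟨k, i⟩ : Var f)) := by
  show Ideal.Quotient.mk _ (MvPolynomial.rename _ (MvPolynomial.X i)) = _
  rw [MvPolynomial.rename_X]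

theorem hom_ext {B : Type u} [CommRing B] [Algebra A B] {φ ψ : Ten f →ₐ[A] B}
    (h : ∀ k, φ.comp (inc f k) = ψ.comp (inc f k)) : φ = ψ := by
  refine (AlgHom.cancel_right (Ideal.Quotient.mkₐ_surjective A (Ideal.span (rels f)))).1
    (MvPolynomial.algHom_ext fun ⟨k, i⟩ => ?_)
  have h1 := congr($(h k) (Ideal.Quotient.mk _ (MvPolynomial.X i)))
  simp only [AlgHom.comp_apply, inc_mk] at h1
  exact h1

theorem exists_desc {B : Type u} [CommRing B] [Algebra A B] (φ : ∀ k, (f k).1.Ring →ₐ[A] B) :
    ∃ Φ : Ten f →ₐ[A] B, ∀ k, Φ.comp (inc f k) = φ k := by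
  let v : Var f → B := fun x => φ x.1 (Ideal.Quotient.mk _ (MvPolynomial.X x.2))
  have h : ∀ p ∈ Ideal.span (rels f), MvPolynomial.aeval v p = 0 := by
    have : Ideal.span (rels f) ≤ RingHom.ker (MvPolynomial.aeval (R := A) v).toRingHom := by
      rw [Ideal.span_le]
      rintro _ ⟨⟨k, p, hp⟩, rfl⟩
      show MvPolynomial.aeval v (MvPolynomial.rename _ p) = 0
      rw [MvPolynomial.aeval_rename]
      have : MvPolynomial.aeval (v ∘ fun i => (⟨k, i⟩ : Var f)) =
          (φ k).comp (Ideal.Quotient.mkₐ A _) := MvPolynomial.algHom_ext fun i => by simp [v]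
      rw [this, AlgHom.comp_apply, Ideal.Quotient.mkₐ_eq_mk,
        Ideal.Quotient.eq_zero_iff_mem.2 (Ideal.subset_span hp), map_zero]
    exact fun p hp => this hp
  refine ⟨Ideal.Quotient.liftₐ _ (MvPolynomial.aeval v) h, fun k => ?_⟩
  refine (AlgHom.cancel_right (Ideal.Quotient.mkₐ_surjective A _)).1
    (MvPolynomial.algHom_ext fun i => ?_)
  show Ideal.Quotient.liftₐ _ _ h (inc f k (Ideal.Quotient.mk _ _)) = _
  rw [inc_mk]
  exact MvPolynomial.aeval_X _ _

theorem formallyEtale : Algebra.FormallyEtale A (Ten f) := by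
  rw [Algebra.FormallyEtale.iff_comp_bijective]
  intro B _ _ I hI
  have hk : ∀ k, Function.Bijective
      ((Ideal.Quotient.mkₐ A I).comp : ((f k).1.Ring →ₐ[A] B) → _) := fun k => by
    have := (f k).2.1
    exact Algebra.FormallyEtale.iff_comp_bijective.1 inferInstance I hI
  constructor
  · intro φ ψ h
    refine hom_ext f fun k => (hk k).1 ?_
    show (Ideal.Quotient.mkₐ A I).comp (φ.comp _) = (Ideal.Quotient.mkₐ A I).comp (ψ.comp _)
    rw [← AlgHom.comp_assoc, ← AlgHom.comp_assoc]
    exact congrArg (fun a => a.comp (inc f k)) h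
  · intro χ
    choose φ hφ using fun k => (hk k).2 (χ.comp (inc f k))
    obtain ⟨Φ, hΦ⟩ := exists_desc f φ
    refine ⟨Φ, hom_ext f fun k => ?_⟩
    rw [AlgHom.comp_assoc, hΦ]
    exact hφ k

theorem etale [Finite κ] : Algebra.Etale A (Ten f) := by
  have := formallyEtale f
  have : Finite (Σ k : κ, {p // p ∈ (f k).1.rel}) := inferInstance
  have : Algebra.FinitePresentation A (Ten f) :=
    Algebra.FinitePresentation.quotient ⟨(Set.finite_range _).toFinset, by rw [Set.Finite.coe_toFinset]; rfl⟩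
  exact ⟨inferInstance, inferInstance⟩

variable (A) in
/-- The tensor product of all faithfully flat etale algebras. -/
abbrev All : Type u := Ten (id : Idx A → Idx A)

theorem fac_ten : Fac (Etale.Et A) (Ten f) := by
  classical
  intro Z _ _ hZ g
  obtain ⟨m, ff, hff, R, hR⟩ := hZ.out
  choose P hP using fun j : Fin m => Ideal.Quotient.mk_surjective (g (ff (MvPolynomial.X j)))
  let V0 : MvPolynomial (Fin m) A →ₐ[A] MvPolynomial (Var f) A :=
    MvPolynomial.aeval P
  have hV0 : (Ideal.Quotient.mkₐ A _).comp V0 = g.comp ff :=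
    MvPolynomial.algHom_ext fun j => by simp [V0, hP]
  have hker : ∀ p ∈ R, V0 p ∈ Ideal.span (rels f) := by
    intro p hp
    have h0 : ff p = 0 := by
      have := Ideal.subset_span (α := MvPolynomial (Fin m) A) hp
      rw [hR] at this
      exact this
    rw [← Ideal.Quotient.eq_zero_iff_mem]
    exact congr($hV0 p).trans (by rw [AlgHom.comp_apply, h0, map_zero])
  choose U hUs hU using fun p hp => Submodule.mem_span_finite_of_mem_span (hker p hp)
  choose ix hix using fun (x : MvPolynomial (Var f) A)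
    (hx : x ∈ rels f) => (show ∃ y : Σ k : κ, {p // p ∈ (f k).1.rel},
      MvPolynomial.rename (fun i => (⟨y.1, i⟩ : Var f)) y.2.1 = x from hx)
  let s : Finset κ := (Finset.univ.biUnion fun j => (P j).vars.image Sigma.fst) ∪
    R.attach.biUnion fun p => (U p.1 p.2).attach.image fun x => (ix x.1 (hUs p.1 p.2 x.2)).1
  let f' : s → Idx A := fun k => f k.1
  let incl : Var f' → Var f := fun x => ⟨x.1.1, x.2⟩
  have hincl : Function.Injective incl := by
    rintro ⟨⟨k, hk⟩, i⟩ ⟨⟨k', hk'⟩, i'⟩ h
    simp only [incl, Sigma.mk.inj_iff] at h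
    obtain ⟨rfl, h⟩ := h
    simp [eq_of_heq h]
  let V : MvPolynomial (Fin m) A →ₐ[A] Ten f' :=
    (Ideal.Quotient.mkₐ A _).comp ((MvPolynomial.killCompl hincl).comp V0)
  have hkerV : RingHom.ker ff.toRingHom ≤ RingHom.ker V.toRingHom := by
    rw [← hR, Ideal.span_le]
    intro p hp
    show Ideal.Quotient.mk _ (MvPolynomial.killCompl hincl (V0 p)) = 0
    rw [Ideal.Quotient.eq_zero_iff_mem]
    have : Ideal.span (U p hp : Set (MvPolynomial (Var f) A)) ≤
        (Ideal.span (rels f')).comap (MvPolynomial.killCompl hincl) := by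
      rw [Ideal.span_le]
      intro x hx
      set y := ix x (hUs p hp hx) with hy
      have hys : y.1 ∈ s := Finset.mem_union_right _ (Finset.mem_biUnion.2
        ⟨⟨p, hp⟩, Finset.mem_attach _ _, Finset.mem_image.2 ⟨⟨x, hx⟩, Finset.mem_attach _ _, rfl⟩⟩)
      show MvPolynomial.killCompl hincl x ∈ Ideal.span (rels f')
      have hxe : x = MvPolynomial.rename incl
          (MvPolynomial.rename (fun i => (⟨⟨y.1, hys⟩, i⟩ : Var f')) y.2.1) := by
        rw [MvPolynomial.rename_rename]
        exact (hix x (hUs p hp hx)).symm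
      rw [hxe, MvPolynomial.killCompl_rename_app]
      exact Ideal.subset_span ⟨⟨⟨y.1, hys⟩, y.2⟩, rfl⟩
    exact this (hU p hp)
  obtain ⟨w, hw⟩ := exists_desc f' fun k => inc f k.1
  have : Finite s := inferInstance
  refine ⟨Ten f', inferInstance, inferInstance, etale f', AlgHom.liftOfSurjective ff hff V hkerV, w, ?_⟩
  refine (AlgHom.cancel_right hff).1 ?_
  rw [AlgHom.comp_assoc, AlgHom.liftOfSurjective_comp, ← hV0]
  refine MvPolynomial.algHom_ext fun j => ?_
  show w (Ideal.Quotient.mk _ (MvPolynomial.killCompl hincl (V0 (MvPolynomial.X j)))) =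
    Ideal.Quotient.mk _ (V0 (MvPolynomial.X j))
  obtain ⟨q, hq⟩ := MvPolynomial.exists_rename_eq_of_vars_subset_range (V0 (MvPolynomial.X j)) incl
    hincl (by
      intro x hx
      have hx' : x ∈ (P j).vars := by simpa [V0] using hx
      exact ⟨⟨⟨x.1, Finset.mem_union_left _ (Finset.mem_biUnion.2
        ⟨j, Finset.mem_univ _, Finset.mem_image.2 ⟨x, hx', rfl⟩⟩)⟩, x.2⟩, rfl⟩)
  rw [← hq, MvPolynomial.killCompl_rename_app]
  have : w.comp (Ideal.Quotient.mkₐ A _) =
      (Ideal.Quotient.mkₐ A _).comp (MvPolynomial.rename incl) := by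
    refine MvPolynomial.algHom_ext fun ⟨k, i⟩ => ?_
    have h1 := congr($(hw k) (Ideal.Quotient.mk _ (MvPolynomial.X i)))
    simp only [AlgHom.comp_apply, inc_mk] at h1
    simp only [AlgHom.comp_apply, MvPolynomial.rename_X, Ideal.Quotient.mkₐ_eq_mk]
    exact h1
  exact congr($this q)

variable (A) in
theorem fac : Fac (Etale.Et A) (All A) := fac_ten (id : Idx A → Idx A)

variable (A) in
/-- Geometric points extend. -/
theorem exists_point (k : Type u) [Field k] [IsAlgClosed k] [Algebra A k] :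
    Nonempty (All A →ₐ[A] k) := by
  have h : ∀ i : Idx A, Nonempty (i.1.Ring →ₐ[A] k) := by
    intro i
    have := i.2.1
    have := i.2.2
    have : Algebra.FiniteType k (TensorProduct A k i.1.Ring) := inferInstance
    have : Nontrivial (TensorProduct A k i.1.Ring) := inferInstance
    let : CommRing (TensorProduct A k i.1.Ring) := inferInstance
    obtain ⟨m, hm⟩ := Ideal.exists_maximal (TensorProduct A k i.1.Ring)
    have : Algebra.FiniteType k (TensorProduct A k i.1.Ring ⧸ m) := inferInstance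
    let : Field (TensorProduct A k i.1.Ring ⧸ m) := Ideal.Quotient.field m
    have : Module.Finite k (TensorProduct A k i.1.Ring ⧸ m) := finite_of_finite_type_of_isJacobsonRing k (TensorProduct A k i.1.Ring ⧸ m)
    let e : (TensorProduct A k i.1.Ring ⧸ m) →ₐ[k] k := IsAlgClosed.lift
    exact ⟨((e.comp (Ideal.Quotient.mkₐ k m)).restrictScalars A).comp
      Algebra.TensorProduct.includeRight⟩
  obtain ⟨Φ, -⟩ := exists_desc (id : Idx A → Idx A) fun i => (h i).some
  exact ⟨Φ⟩

variable (A) in
theorem faithfullyFlat : Module.FaithfullyFlat A (All A) := by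
  have := Etale.flat (fac A)
  refine Module.FaithfullyFlat.of_comap_surjective fun p => ?_
  let k := AlgebraicClosure p.asIdeal.ResidueField
  obtain ⟨Φ⟩ := exists_point A k
  refine ⟨⟨RingHom.ker Φ.toRingHom, RingHom.ker_isPrime _⟩, PrimeSpectrum.ext ?_⟩
  show Ideal.comap (algebraMap A (All A)) (RingHom.ker Φ.toRingHom) = p.asIdeal
  ext a
  rw [Ideal.mem_comap, RingHom.mem_ker, show Φ.toRingHom (algebraMap A _ a) = algebraMap A k a from
    Φ.commutes a, IsScalarTower.algebraMap_apply A p.asIdeal.ResidueField k, map_eq_zero,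
    Ideal.algebraMap_residueField_eq_zero]

end Groth.Agent.IndAlg.EtCover
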